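import Cfsg.Agent.Comp.BitMore3

set_option autoImplicit false
set_option Elab.async false
set_option maxRecDepth 100000

namespace Cfsg.Agent.HSR

open Cfsg.Agent.Comp.BN

def P1 : Pres := ⟨[1, 0, 3, 2, 5, 4, 7, 6],
  [[0, 0, 0, 0],
   [2, 2, 2, 2],
   [4, 4, 4, 4],
   [0, 2, 1, 3],
   [0, 4, 1, 5],
   [2, 4, 3, 5],
   [6, 0, 7, 3],
   [6, 2, 7, 5],
   [6, 4, 7, 5, 3, 3, 1],
   [6, 6, 6, 6, 6, 6, 6]]⟩

def PM : Pres := ⟨[1, 0, 3, 2, 5, 4, 6, 8, 7],
  [[0, 0, 0, 0],
   [2, 2, 2, 2],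
   [4, 4, 4, 4],
   [0, 2, 1, 3],
   [0, 4, 1, 5],
   [2, 4, 3, 5],
   [7, 0, 8, 3],
   [7, 2, 8, 5],
   [7, 4, 8, 5, 3, 3, 1],
   [6, 0, 6, 3],
   [6, 4, 6, 4],
   [7, 7, 7, 7, 7, 7, 7],
   [6, 7, 6, 7, 6, 7],
   [7, 6, 8, 6, 7, 6, 8, 6, 7, 6, 8, 6, 7, 6, 8, 6]]⟩

def PM2 : Pres := ⟨[1, 0, 3, 2, 5, 4, 6, 8, 7],
  [[0, 0, 0, 0],
   [2, 2, 2, 2],
   [4, 4, 4, 4],
   [0, 2, 1, 3],
   [0, 4, 1, 5],
   [2, 4, 3, 5],
   [7, 0, 8, 3],
   [7, 2, 8, 5],
   [7, 4, 8, 5, 3, 3, 1],
   [6, 0, 6, 3],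
   [6, 4, 6, 4],
   [7, 7, 7, 7, 7, 7, 7],
   [6, 7, 6, 7, 6, 7],
   [7, 6, 8, 6, 7, 6, 8, 6, 7, 6, 8, 6, 7, 6, 8, 6, 0, 0, 2, 2]]⟩

namespace A1
noncomputable def m0_0 : ℕ := nat_lit 0x3f8d3205b6e3cfe6503776a033fbcdff12b93dd7971aca1cadefbe453c3d7368

noncomputable def m0_1 : ℕ := nat_lit 0x1673b836c5dcb43b3e419952ef9ad959000000000000000000000000000000001b6ce3b2f727a5f28b7795050e8bdec9

noncomputable def m0_2 : ℕ := nat_lit 0x85bede4aacd5bd400000000000000009231a978ed8d0eca0000000000000000c0c4f460b32594b20000000000000000c402744f1ab05e98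

noncomputable def m0_3 : ℕ := nat_lit 0xa195b86800000000143a3091000000005a62270200000000c80476c900000000afbebd8a000000001f6ac0880000000032bdb5ac000000008824dd12

noncomputable def m0_4 : ℕ := nat_lit 0x979a00004a360000fa9d000051a20000cdee0000050c000028ce0000b425000037e20000ab110000666400002d5600005ee60000e9490000141800004d01

noncomputable def m0_5 : ℕ := nat_lit 0xac00e30072002600d900c0000400670081000b000600ee00c300390036009c00f800f6008f0059003600cc0043001f001400200080000d00f100fd000b0021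

noncomputable def m0_6 : ℕ := nat_lit 0x5000304060e0b0c01080d010f000d0209090c070a0c020108040c0c00000f0200000c0e010408060d060e0f0a0a0c0c06040e0e080301030d0f0104070f09

noncomputable def m0_7 : ℕ := nat_lit 0x20021112231020003221023201101213102321020002012000030000100310213230101211001320023020223113332110201211032200020031221002333013

noncomputable def m0_8 : ℕ := nat_lit 0x1451515401401140114100110404541110515144101404440010414104444104110004441104411141104414104540140141454010101411011550405145414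

noncomputable def m0_9 : ℕ := nat_lit 0x2200000200002020220000200000000220020000202200200020220200220000200000020200000202000222200020200000202000200220002000000200022

noncomputable def m0_10 : ℕ := nat_lit 0x802080e040608080000000a000c040c00060000020004040008000c0206020e020000000c00040000080808080c0804080200080e0802000200000800020c0c

noncomputable def m0_11 : ℕ := nat_lit 0x2600d2001200b4007800420016000c00a000420022002200c4007000a0008400c0008400a600c0007a002400800076005c000200a0000800720026004e0008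

noncomputable def m0_12 : ℕ := nat_lit 0x18b2000041600000e81800007290000009720000ab0c00003d0e0000d272000005800000ab900000827c00002a9c00000a30000080f80000ccda00002454

noncomputable def m0_13 : ℕ := nat_lit 0x92786fbe00000000e15132a4000000005e42280600000000c84641c800000000e6ba3912000000006f52ad1400000000720df12800000000e92d9772

noncomputable def m0_14 : ℕ := nat_lit 0x62fd5d53c0b73cc00000000000000000735883cf3ec822e000000000000000018a4f78aeb04b48000000000000000000422a83653647c90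

noncomputable def m0_15 : ℕ := nat_lit 0x1fa9a33511f799da4be14f8f6662fc0000000000000000000000000000000009b2c2b70f62f95f29d3a8c33ff9ea1ba

noncomputable def m0_16 : ℕ := nat_lit 0x3f8d3205b6e3cfe623417f78fd9bae7e8d521670fa2b7dfda568f3f5685ff4ec

noncomputable def net0 : Net := (.cons 256 m0_0 (.cons 128 m0_1 (.cons 64 m0_2 (.cons 32 m0_3 (.cons 16 m0_4 (.cons 8 m0_5 (.cons 4 m0_6 (.cons 2 m0_7 (.cons 1 m0_8 (.cons 2 m0_9 (.cons 4 m0_10 (.cons 8 m0_11 (.cons 16 m0_12 (.cons 32 m0_13 (.cons 64 m0_14 (.cons 128 m0_15 (.cons 256 m0_16 .nil)))))))))))))))))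

theorem ok0 : Net.ok 512 net0 = true :=
  by decide +kernel

noncomputable def net1 : Net := (.cons 256 m0_16 (.cons 128 m0_15 (.cons 64 m0_14 (.cons 32 m0_13 (.cons 16 m0_12 (.cons 8 m0_11 (.cons 4 m0_10 (.cons 2 m0_9 (.cons 1 m0_8 (.cons 2 m0_7 (.cons 4 m0_6 (.cons 8 m0_5 (.cons 16 m0_4 (.cons 32 m0_3 (.cons 64 m0_2 (.cons 128 m0_1 (.cons 256 m0_0 .nil)))))))))))))))))

theorem ok1 : Net.ok 512 net1 = true :=
  by decide +kernel

noncomputable def m2_0 : ℕ := nat_lit 0x2ad390420e70e680ddb1b8a24d0c67e43ce5933b8932489419bb535ac10d6186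

noncomputable def m2_1 : ℕ := nat_lit 0xdba23a0cbc9cbd8d432045e1e8b64e20000000000000000000000000000000095f47f3d679f0fe5ce430d03f9ade627

noncomputable def m2_2 : ℕ := nat_lit 0xc1ba0cdc8b399136000000000000000047cdbbd87c086fea000000000000000006a97865948a143b0000000000000000bbb4bac045256348

noncomputable def m2_3 : ℕ := nat_lit 0xab00b7ce000000000c9b99c000000000de6c5f1c00000000c5d2703e00000000560d7d6400000000ab9c9d1900000000295fbd9800000000f0a03741

noncomputable def m2_4 : ℕ := nat_lit 0x1144000091de0000bb620000262a0000245a0000bd3c00007f440000dc8d0000d4d90000653400008dc000003de50000142c000080a40000b81300004901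

noncomputable def m2_5 : ℕ := nat_lit 0x76000c002b000400e7006a007400a900bd002200fe00fe00a000ad00140092002c001100d300c500140017005c00ab0079000400bf005c0041003400900068

noncomputable def m2_6 : ℕ := nat_lit 0x50f020c0d010a0a0609020e020d000f0c0d03090f000c080003030f0c00080f020005080c03050c0f0c060b0c090204040b0a0c0e0e0e0c070a0c0602010803

noncomputable def m2_7 : ℕ := nat_lit 0x12332202203102120121102311322001030100113002221330210020122110100211023312223211200202312113000321131203231033120220011312120332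

noncomputable def m2_8 : ℕ := nat_lit 0x14010144415140444415110114410404445114101114141400101154004140111400051111545441414050145414411404501044404140111514400400450004

noncomputable def m2_9 : ℕ := nat_lit 0x20222020200022020000220220002200020200000220000000002002200020000000202020000000000020002222200002002000220222022000000000002

noncomputable def m2_10 : ℕ := nat_lit 0xa0208080a00020802000c02040c0c040806000c0a0c0a0402000a0c00000c020008000c0a08080c0c0a0000000000040404080006000004060400000a0004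

noncomputable def m2_11 : ℕ := nat_lit 0x2c0004001000a40044002a0020006800b20032008c00640050008e004600000028001c00d0009c001200e00060007c005000720002008600da00b000820020

noncomputable def m2_12 : ℕ := nat_lit 0x985400009dbe0000b1000000152a00000cd20000692c0000cb4000001c980000c7b0000004a40000c1420000d8940000af00000071860000d1740000c256

noncomputable def m2_13 : ℕ := nat_lit 0xa0813ca40000000035255bc00000000084749b5800000000f7033008000000009690715000000000ea082ea800000000e45ba69400000000c389b7e8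

noncomputable def m2_14 : ℕ := nat_lit 0xe0ea2efcc098172e0000000000000000871ea398720eed68000000000000000086c91b7df6961ad8000000000000000059b4bd527569cb60

noncomputable def m2_15 : ℕ := nat_lit 0xf79a3e0cdb92b58be6654311ed274280000000000000000000000000000000055dc1d90171d1fe4f0a1a66c349e3f68

noncomputable def m2_16 : ℕ := nat_lit 0x2ad390420e70e68068d10d692d72c52e6bda5c171263b0753f2430bd0a03dc00

noncomputable def net2 : Net := (.cons 256 m2_0 (.cons 128 m2_1 (.cons 64 m2_2 (.cons 32 m2_3 (.cons 16 m2_4 (.cons 8 m2_5 (.cons 4 m2_6 (.cons 2 m2_7 (.cons 1 m2_8 (.cons 2 m2_9 (.cons 4 m2_10 (.cons 8 m2_11 (.cons 16 m2_12 (.cons 32 m2_13 (.cons 64 m2_14 (.cons 128 m2_15 (.cons 256 m2_16 .nil)))))))))))))))))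

theorem ok2 : Net.ok 512 net2 = true :=
  by decide +kernel

noncomputable def net3 : Net := (.cons 256 m2_16 (.cons 128 m2_15 (.cons 64 m2_14 (.cons 32 m2_13 (.cons 16 m2_12 (.cons 8 m2_11 (.cons 4 m2_10 (.cons 2 m2_9 (.cons 1 m2_8 (.cons 2 m2_7 (.cons 4 m2_6 (.cons 8 m2_5 (.cons 16 m2_4 (.cons 32 m2_3 (.cons 64 m2_2 (.cons 128 m2_1 (.cons 256 m2_0 .nil)))))))))))))))))

theorem ok3 : Net.ok 512 net3 = true :=
  by decide +kernel

noncomputable def m4_0 : ℕ := nat_lit 0xc3a3348f55af914990f29e2ada0116cf86e437e2a91fe02708451c43036558bb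

noncomputable def m4_1 : ℕ := nat_lit 0x84bdaffd04ee0e6581feece7bfe9913e00000000000000000000000000000000a78b696d30f1a3f9f43d931c97c87b3a

noncomputable def m4_2 : ℕ := nat_lit 0x3ce67830c82906b00000000000000000f66e85c7bb20934200000000000000009bbe108227a0b38c000000000000000086ab7344f5b42590

noncomputable def m4_3 : ℕ := nat_lit 0x7ac1f27e00000000560a644500000000687a235a00000000cf75879a00000000a9f1523c000000006a3a40d1000000006fe405d600000000ae671f39

noncomputable def m4_4 : ℕ := nat_lit 0xd4010000b4fb0000d9a30000f8d60000d8120000c7ad000033a7000044f3000015400000494100003dc40000ddef0000634400009f24000011c800008cbe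

noncomputable def m4_5 : ℕ := nat_lit 0xc000e500bd00bf009e0047000700e8009a004d0070009f0005003a00a3003000d70021002000fd0089001400ea0000001e003e0088006800fe00020014002c

noncomputable def m4_6 : ℕ := nat_lit 0xc0201050d080e050801010a0a000c0705040407080d020b0b060e010403080b02010e06090f080d0c020d05040d02090f0104000f080e0c040a0109060c070f

noncomputable def m4_7 : ℕ := nat_lit 0x31002202323020302200021001202321202002310022233010220302300020123022122310012010031212222023001221222112021000123000212023220003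

noncomputable def m4_8 : ℕ := nat_lit 0x10101441444541141414141114414041415041504014014441141514010140105510110104045401455111014144400054014054411004441001154014041044

noncomputable def m4_9 : ℕ := nat_lit 0x20200002000000002200020200222020220022000020002000020002000200000020000200020202000000022020000000002002202002022002200022020002

noncomputable def m4_10 : ℕ := nat_lit 0x8020000080c0e0404000200020402000c060a0e000602080a060e020e02080e08080c04040e000606020400020a00040800020c060c0c0e0c0200080e00020a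

noncomputable def m4_11 : ℕ := nat_lit 0x4c002800c6007c001400d0000000ea00ba004c007000f800a000a20038003200e400ac00a000d4000c005c00a400da008c00bc00fa00d80034004a00340004

noncomputable def m4_12 : ℕ := nat_lit 0xdd440000723000001c260000d9ba0000df88000096640000961000000cf80000a4e60000d2b00000b1f4000015a2000002460000958000000b92000081ea

noncomputable def m4_13 : ℕ := nat_lit 0xff037632000000005238e30400000000fad94252000000007527a7000000000010b089f00000000002a08a8c00000000c3d84b540000000082739b02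

noncomputable def m4_14 : ℕ := nat_lit 0xf9ff5e1add018ed000000000000000000d0dd1c13218f3d00000000000000000a536b1efa7c173aa0000000000000000da83239653e86704

noncomputable def m4_15 : ℕ := nat_lit 0x459d8bff414f0f25260e2267bdb01d1e00000000000000000000000000000000b7d3292d98f1814fa960b358c7895056

noncomputable def m4_16 : ℕ := nat_lit 0xc3a3348f55af91499e4b1618866a9e66c213604647aaa967c2ed4073f8981c28

noncomputable def net4 : Net := (.cons 256 m4_0 (.cons 128 m4_1 (.cons 64 m4_2 (.cons 32 m4_3 (.cons 16 m4_4 (.cons 8 m4_5 (.cons 4 m4_6 (.cons 2 m4_7 (.cons 1 m4_8 (.cons 2 m4_9 (.cons 4 m4_10 (.cons 8 m4_11 (.cons 16 m4_12 (.cons 32 m4_13 (.cons 64 m4_14 (.cons 128 m4_15 (.cons 256 m4_16 .nil)))))))))))))))))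

theorem ok4 : Net.ok 512 net4 = true :=
  by decide +kernel

noncomputable def net5 : Net := (.cons 256 m4_16 (.cons 128 m4_15 (.cons 64 m4_14 (.cons 32 m4_13 (.cons 16 m4_12 (.cons 8 m4_11 (.cons 4 m4_10 (.cons 2 m4_9 (.cons 1 m4_8 (.cons 2 m4_7 (.cons 4 m4_6 (.cons 8 m4_5 (.cons 16 m4_4 (.cons 32 m4_3 (.cons 64 m4_2 (.cons 128 m4_1 (.cons 256 m4_0 .nil)))))))))))))))))

theorem ok5 : Net.ok 512 net5 = true :=
  by decide +kernel

noncomputable def m6_0 : ℕ := nat_lit 0x92b5a8f180fa305df1b9a7ffbae23710fd756bdb83305d10c2da6db4d11506a6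

noncomputable def m6_1 : ℕ := nat_lit 0x96b1080d7c31b67ccfa04f20254091b100000000000000000000000000000000be35137c980bd5926922cfb8c81a2c0d

noncomputable def m6_2 : ℕ := nat_lit 0xf5f6a78a97dfcafb0000000000000000b7ec7e4d33a0213e00000000000000001a2b1c62d4df04080000000000000000d8f8ddec5f4656fa

noncomputable def m6_3 : ℕ := nat_lit 0xadbe8a3700000000f85773dd00000000f1c0bae400000000114b62d300000000650c93b200000000bda0e66c00000000837c80690000000061291013

noncomputable def m6_4 : ℕ := nat_lit 0xffd80000d01b000038500000d8a9000000a60000b03400000bfd00007dc500008e800000c4800000bb710000dc900000082c0000259e000025c40000e837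

noncomputable def m6_5 : ℕ := nat_lit 0xdf001f00f300c20078006700c800d400a2000900e400aa00930071002b00c10087005200270008003c00e0007300690024001f00dd00e8006e000200cc0049

noncomputable def m6_6 : ℕ := nat_lit 0x8080f0a000a0c0a0e0a000b080b080e09060d080d080d07030a0d080b0e050908010d04050c00080b0501050c0d01060006040c0f01030d0406040a05040204

noncomputable def m6_7 : ℕ := nat_lit 0x30020321300320310030310020010030013030223210023202203103102203122102310211121220021133013222202322320030021313032200220130233100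

noncomputable def m6_8 : ℕ := nat_lit 0x15014055405114441411101010044011000540414140140500414151140041011441101404440410501051114014154141504110014511144005414440015140

noncomputable def m6_9 : ℕ := nat_lit 0x20020000000000220220002020022020000000002220220000220002000000000000200002020000000002202022200020002000002022202000022000020000

noncomputable def m6_10 : ℕ := nat_lit 0x600080c06020e0808000808000e0c0600000c020e00060a000a02020000000c08060006040e000208020c00040c0404040a06000a0c00040408020a08060808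

noncomputable def m6_11 : ℕ := nat_lit 0xd800f200b000c400a8006e004c007000080014004400a800d200c200ce004400c8004c00660098001c008600f800c6007e001a00c000ba00640004001c0018

noncomputable def m6_12 : ℕ := nat_lit 0xf91200007628000032000000481000002c0e0000807400006a3c00003b400000c5c200009a800000ae100000ea34000032ca000094740000264600000cba

noncomputable def m6_13 : ℕ := nat_lit 0xac9c8a5400000000f0de438c00000000d01683f000000000d14e15c000000000000d96b000000000c2a6040800000000d6cc16000000000045e43e14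

noncomputable def m6_14 : ℕ := nat_lit 0x77622f431b0efed600000000000000004597927fb09450a80000000000000000cb044964ffd610080000000000000000f5f86e6669675398

noncomputable def m6_15 : ℕ := nat_lit 0x6b128dcfceb96744276a0cd51a2134200000000000000000000000000000000f23d0576c80fda90f2b18f03024e7fc0

noncomputable def m6_16 : ℕ := nat_lit 0x92b5a8f180fa305d056b7b7e2f974e3bfbb59e259894f18e827bfde91d134410

noncomputable def net6 : Net := (.cons 256 m6_0 (.cons 128 m6_1 (.cons 64 m6_2 (.cons 32 m6_3 (.cons 16 m6_4 (.cons 8 m6_5 (.cons 4 m6_6 (.cons 2 m6_7 (.cons 1 m6_8 (.cons 2 m6_9 (.cons 4 m6_10 (.cons 8 m6_11 (.cons 16 m6_12 (.cons 32 m6_13 (.cons 64 m6_14 (.cons 128 m6_15 (.cons 256 m6_16 .nil)))))))))))))))))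

theorem ok6 : Net.ok 512 net6 = true :=
  by decide +kernel

noncomputable def net7 : Net := (.cons 256 m6_16 (.cons 128 m6_15 (.cons 64 m6_14 (.cons 32 m6_13 (.cons 16 m6_12 (.cons 8 m6_11 (.cons 4 m6_10 (.cons 2 m6_9 (.cons 1 m6_8 (.cons 2 m6_7 (.cons 4 m6_6 (.cons 8 m6_5 (.cons 16 m6_4 (.cons 32 m6_3 (.cons 64 m6_2 (.cons 128 m6_1 (.cons 256 m6_0 .nil)))))))))))))))))

theorem ok7 : Net.ok 512 net7 = true :=
  by decide +kernel

noncomputable def nets : List Net := [net0, net1, net2, net3, net4, net5, net6, net7]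

noncomputable def act : Act := netAct' nets
noncomputable def π : ℕ → Equiv.Perm ℕ := netPerm nets

theorem spec : act.Spec 512 π :=
  spec_fast (netAct_spec (AllP.forall (p := fun t => Net.ok 512 t = true) ⟨ok0, ok1, ok2, ok3, ok4, ok5, ok6, ok7, trivial⟩))

theorem out : ∀ k, 8 ≤ k → π k = 1 :=
  netPerm_out nets

theorem sat_inv_0 : invC Cfsg.Agent.HSR.A1.act Cfsg.Agent.HSR.P1.I 512 9 Cfsg.Agent.HSR.P1.inv.length [0, 1, 2, 3, 4, 5, 6, 7, 8] = true :=
  by decide +kernel

theorem sat_inv : ∀ k, Cfsg.Agent.HSR.A1.π (Cfsg.Agent.HSR.P1.I k) * Cfsg.Agent.HSR.A1.π k = 1 :=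
  inv_of_checks Cfsg.Agent.HSR.A1.spec (K := 9) (by decide) Cfsg.Agent.HSR.A1.out [[0, 1, 2, 3, 4, 5, 6, 7, 8]] (by decide) ⟨sat_inv_0, trivial⟩

theorem sat_rel_0_0 : relsC Cfsg.Agent.HSR.A1.act Cfsg.Agent.HSR.P1.I 512 9 [[0, 0, 0, 0], [2, 2, 2, 2], [4, 4, 4, 4], [0, 2, 1, 3], [0, 4, 1, 5], [2, 4, 3, 5], [6, 0, 7, 3], [6, 2, 7, 5], [6, 4, 7, 5, 3, 3, 1], [6, 6, 6, 6, 6, 6, 6]] [0, 1, 2, 3, 4, 5, 6, 7, 8] = true :=
  by decide +kernel

theorem sat_rel_0 : ∀ r ∈ ([[0, 0, 0, 0], [2, 2, 2, 2], [4, 4, 4, 4], [0, 2, 1, 3], [0, 4, 1, 5], [2, 4, 3, 5], [6, 0, 7, 3], [6, 2, 7, 5], [6, 4, 7, 5, 3, 3, 1], [6, 6, 6, 6, 6, 6, 6]] : List (List ℕ)), ev Cfsg.Agent.HSR.A1.π r = 1 :=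
  rels_of_checks Cfsg.Agent.HSR.A1.spec (K := 9) (by decide) sat_inv _ [[0, 1, 2, 3, 4, 5, 6, 7, 8]] (by decide) ⟨sat_rel_0_0, trivial⟩

theorem sat_rel : ∀ r ∈ ([[0, 0, 0, 0], [2, 2, 2, 2], [4, 4, 4, 4], [0, 2, 1, 3], [0, 4, 1, 5], [2, 4, 3, 5], [6, 0, 7, 3], [6, 2, 7, 5], [6, 4, 7, 5, 3, 3, 1], [6, 6, 6, 6, 6, 6, 6]] : List (List ℕ)), ev Cfsg.Agent.HSR.A1.π r = 1 :=
  rels_join [[[0, 0, 0, 0], [2, 2, 2, 2], [4, 4, 4, 4], [0, 2, 1, 3], [0, 4, 1, 5], [2, 4, 3, 5], [6, 0, 7, 3], [6, 2, 7, 5], [6, 4, 7, 5, 3, 3, 1], [6, 6, 6, 6, 6, 6, 6]]] ⟨sat_rel_0, trivial⟩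

theorem sat : Sat Cfsg.Agent.HSR.P1 Cfsg.Agent.HSR.A1.π :=
  ⟨Cfsg.Agent.HSR.A1.out, sat_inv, sat_rel⟩

noncomputable def done_tr0 : ℕ := nat_lit 0x685bf9c360f40f542f963a487f3d4871e913ed96d6a93e3937234c93596664d26d95d76745f72bab34d4d59ab5356ab356ab54d5aad556aa

noncomputable def done_tr1 : ℕ := nat_lit 0x1107f0e74176175817d33a82bb6d5972f045b6b4c7aa2caa1e7454219b234e843538924d16dd4aca5965652ca6594cd594cd6565335964cc

noncomputable def done_tr2 : ℕ := nat_lit 0x401ff1c741f41f501fd33a00ff3d4870e007ff96c7a83eb81f314481d92366d03d9cd36757fe0aeb1c74758eb71d6ee1d6ee7875bb9e78f0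

noncomputable def done_tr3 : ℕ := nat_lit 0x86a006189e09e0a3c028c5350082a68c06a800492854c144c088a34c2498912982422890a8009414820a0a41488291082910820a44208100

noncomputable def done_t0_0 : ℕ := nat_lit 0xc625515195babf4982f8ec975705782ee6e606d8665e6166982c11c1f92bc78922ecdb17ac2b9480814b024fea9fcb49fff7027ffdef8101

noncomputable def done_t0_1 : ℕ := nat_lit 0x22113e2407af9090ae8cf85969c6036b2201f520e4eff301608038534bb07a4a2ae81cf26ff408003606c2ea65c5285db6ffd75bbdf7cfc

noncomputable def done_t0_2 : ℕ := nat_lit 0x4226a3b251aafe098f39d787b4b0a01c02657b178da6c940097d62a0e49304301dba2228f0800a2f5b346e801305bc708900800000000000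

noncomputable def done_t0_3 : ℕ := nat_lit 0x422783b2d1eefe198f78f787b5bda83ec26c59c7cc46d7d80eecb72cdf98c150920673c88350065447095b00000082000c80000000000000

noncomputable def done_t0_4 : ℕ := nat_lit 0x9598440d0e0100e250020030484217c00002802800100002c000000000003800000000000000000000000000000000000000000000000000

noncomputable def done_t1_0 : ℕ := nat_lit 0x404d088141b07f05075063117d0380504a2324c50535e40198aa295d6ddb438b3f9ddf468c00bca012caf7594dbdf6fbff6f3effdde08103

noncomputable def done_t1_1 : ℕ := nat_lit 0x22c0288310346af12b401c2dbc82a070e5903f0517116d2437a923036127432167dd8de30754119090e07d0c851e6f71d2c37c75bbdf7ef8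

noncomputable def done_t1_2 : ℕ := nat_lit 0x40c6bac611d46da12a833121b49f6c6d8490cb03d7c94fbc0e8a0298f04422711cc90ca0a02b1a7f28b40a8592070180a034800000000000

noncomputable def done_t1_3 : ℕ := nat_lit 0x42c62ac651d46df12ad37f25b583ac6da4905b9016f195040b9bef985c7085a11b457227f3c41224a4888a0a210001000438800000000000

noncomputable def done_t1_4 : ℕ := nat_lit 0x8c394518ae099006d42c805042200280000f000828000041c000000000081000800200100000000000000000000000000000000000000000

noncomputable def done_t2_0 : ℕ := nat_lit 0x5b8d414153b90f443d5229adee688898dd13071484c1a053088f0190f3c18b440ec6cb6346007069a93026059004ae86fb7011bedc200207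

noncomputable def done_t2_1 : ℕ := nat_lit 0x1f87a19f1cf88f536e4872bdb594f8a93efbbbebc7746f9e73f153d7bb3be7fcaf1659345c7afcfe3677675cb79e736ffffeebffffbef9f0

noncomputable def done_t2_2 : ℕ := nat_lit 0x5381912f17b80f520d1bbba4aeb0188d89c04803240a29c22cde1a1262ddae2050232c8ca8382b10618988b14c669d800000100000000000

noncomputable def done_t2_3 : ℕ := nat_lit 0x53a1916f57b80f52cd1bbbafaef8d89fe9a05836a5dbbb622dae8d38d5f4052012ce836707a422058d001212002981000020100000000000

noncomputable def done_t2_4 : ℕ := nat_lit 0xa0584e00a00770ac10a404404003074000040400180000018000200000001003000000000000000000000000000000000000000000000000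

noncomputable def done_t3_0 : ℕ := nat_lit 0x359f41202f426088bbcd699657057a7518fc18c8446b408b58de5310e18326141a4ddb22d00060602d3412831366b144eb8aa5bac401060f

noncomputable def done_t3_1 : ℕ := nat_lit 0xf59ee5bb75c1749b2eef12beb5fcd097bfed9ff7efc6febee591715df9aa66d9655d9efd5b9fb4febf4775ceb3fbbfb9d777d3fffffcf1e0

noncomputable def done_t3_2 : ℕ := nat_lit 0x6194619de9d272f9ab8e299492b19c0d91a04103070247227bce1a8263d4cfe05a412898ac0003106389aa3548000046a910200000000000

noncomputable def done_t3_3 : ℕ := nat_lit 0x619461bdeff672f9abef6b9c92f5fc3ff1a0435a476b15327a2fad244ca300041aa1e712ef764a0503300210040c4002089a000000000000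

noncomputable def done_t3_4 : ℕ := nat_lit 0xa611a4000088904501084414802034000122020101000410000000000001002800200000000000000000000000000000000000000000000

noncomputable def done_t4_0 : ℕ := nat_lit 0x15a156420f7ef21d43c97fab814e7f882031a0107e1f614f9e287f718fe34b88730992c98c00818a19e40439c032989f3d894fcf62534e9f

noncomputable def done_t4_1 : ℕ := nat_lit 0x93a476d01b4c3298c3eb5ae1ba2a4830246420e5ecaf8d2e40807f4ea6138ba84201040cbe548144002061356e2ad54aa5dca3aa5528a140

noncomputable def done_t4_2 : ℕ := nat_lit 0x934574d2117e129903cb7baabbe69dbbf5d03225dd69cd6a6eeec03e97d78687d553aa9400007710e3a3cb4024c000140c88840000000000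

noncomputable def done_t4_3 : ℕ := nat_lit 0x938574d21d7e129b83ebbbe0bbae6a34e50832fc8da30de24e302404b1de44001739b64516d50a04798c40000009c0000800000000000000

noncomputable def done_t4_4 : ℕ := nat_lit 0x2c02882de001c56434140414000100400a010400001000018000000000001000000000000008000000000000000000000000000000000000

noncomputable def done_t5_0 : ℕ := nat_lit 0xf08863aade12cfdca61e519c6f9cd83395f3807c0c47e147928e24417974c9b82577c5cfa00080aa3401db3369d58abd7cab5fdf2ad75ebf

noncomputable def done_t5_1 : ℕ := nat_lit 0x749063a894e4c7aac39a00ac2688a234e0a0c0c8ececd204414000c26a24e1f908c314fc6564881120458ab158e3b98c0b11838ac4208100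

noncomputable def done_t5_2 : ℕ := nat_lit 0x75a06b8250f687f8278e598027dc620ff94089abecbad542c6ee3f3e7fea5897cb6382188c017d14e3ca0048002308822000880000000000

noncomputable def done_t5_3 : ℕ := nat_lit 0x74816ba2daf6877a47ba18aa275ce23cf4008992ecf91c78666fc40259720500c907fb5785d7000004540408842440020001880000000000

noncomputable def done_t5_4 : ℕ := nat_lit 0x8a4a9451200928050800a651582315c002182400120000010000000000000000000000000000020000000000000000000000000000000000

noncomputable def done_t6_0 : ℕ := nat_lit 0xd11c010801805800b845000e0400948101aa12281953c0c3e99e213c44cd93578aef4d9aaa0a7545ab9b8af15beeb73eeb77b3baddefbf7f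

noncomputable def done_t6_1 : ℕ := nat_lit 0xc1b4060c838820a0f829c40a04d2a28f0000494220441014280981c2c0118068588d20204129805144801082000002000004240000000000

noncomputable def done_t6_2 : ℕ := nat_lit 0xa5900d283a03b00f780040ff845004891e400b020100008020160080404182404a890422d02b007500a02084000000408020340000000000

noncomputable def done_t6_3 : ℕ := nat_lit 0xc3b4070c03807000f841410b8450840b0040590300401010290f8902e24080305a25212283230024448010020004020000201c0000000000

noncomputable def done_t6_4 : ℕ := nat_lit 0x1848001004000800000400004000010000160000000003000040120000102800000000000000000000000000000000000000000000000000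

noncomputable def done_t7_0 : ℕ := nat_lit 0x711ee0a241d61f5c1e533208f6710970d017f796478b3e233f275421db6764d63d9dd26f46c441eb7df4718eb41d4ef5d6ef7df5bbdf7eff

noncomputable def done_t7_1 : ℕ := nat_lit 0x184ce0a241f41f581f122a08f6311973894780240622228a311010910200028220014528520a038021010410222000020000000000000000

noncomputable def done_t7_2 : ℕ := nat_lit 0x195e6104003203080001088206185121294000208420028a2047589002442ac240010048010d030021018410026004540000000000000000

noncomputable def done_t7_3 : ℕ := nat_lit 0x594de124001203080101188a06585133390000308423020201574832004402164021456053374a0001008430212020020023000000000000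

noncomputable def done_t7_4 : ℕ := nat_lit 0x200018412000000420c400400904000040100a00100000110000000000000000000000000000200000000000000000000000000000000000

noncomputable def doneC : TC := ⟨Cfsg.Agent.HSR.P1, [], 448, 512, 9, 5, [done_tr0, done_tr1, done_tr2, done_tr3],
  [[done_t0_0, done_t0_1, done_t0_2, done_t0_3, done_t0_4],
   [done_t1_0, done_t1_1, done_t1_2, done_t1_3, done_t1_4],
   [done_t2_0, done_t2_1, done_t2_2, done_t2_3, done_t2_4],
   [done_t3_0, done_t3_1, done_t3_2, done_t3_3, done_t3_4],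
   [done_t4_0, done_t4_1, done_t4_2, done_t4_3, done_t4_4],
   [done_t5_0, done_t5_1, done_t5_2, done_t5_3, done_t5_4],
   [done_t6_0, done_t6_1, done_t6_2, done_t6_3, done_t6_4],
   [done_t7_0, done_t7_1, done_t7_2, done_t7_3, done_t7_4]]⟩

theorem done_s : doneC.structC Cfsg.Agent.HSR.A1.act = true :=
  by decide +kernel

theorem done_c0_0 : doneC.coverC Cfsg.Agent.HSR.A1.act 0 true [(2, 1), (0, 0), (9, 0), (10, 1), (12, 0), (13, 1), (18, 1)] [] 0 (ones 448) = true :=
  by decide +kernel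

theorem done_j0 : doneC.JustS Cfsg.Agent.HSR.A1.π 0 (ones 448) :=
  TC.cover_step Cfsg.Agent.HSR.A1.spec done_s (TC.justS_zero 0) done_c0_0

theorem done_c1_0 : doneC.coverC Cfsg.Agent.HSR.A1.act 1 true [(2, 0), (1, 0), (9, 2), (10, 3), (12, 2), (13, 3), (19, 2)] [] 0 (ones 448) = true :=
  by decide +kernel

theorem done_j1 : doneC.JustS Cfsg.Agent.HSR.A1.π 1 (ones 448) :=
  TC.cover_step Cfsg.Agent.HSR.A1.spec done_s (TC.justS_zero 1) done_c1_0

theorem done_c2_0 : doneC.coverC Cfsg.Agent.HSR.A1.act 2 true [(8, 1), (3, 0), (9, 1), (10, 0), (15, 0), (16, 1), (19, 0), (21, 1)] [] 0 (ones 448) = true :=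
  by decide +kernel

theorem done_j2 : doneC.JustS Cfsg.Agent.HSR.A1.π 2 (ones 448) :=
  TC.cover_step Cfsg.Agent.HSR.A1.spec done_s (TC.justS_zero 2) done_c2_0

theorem done_c3_0 : doneC.coverC Cfsg.Agent.HSR.A1.act 3 true [(8, 0), (4, 0), (9, 3), (10, 2), (15, 2), (16, 3), (18, 3), (22, 2)] [] 0 (ones 448) = true :=
  by decide +kernel

theorem done_j3 : doneC.JustS Cfsg.Agent.HSR.A1.π 3 (ones 448) :=
  TC.cover_step Cfsg.Agent.HSR.A1.spec done_s (TC.justS_zero 3) done_c3_0

theorem done_c4_0 : doneC.coverC Cfsg.Agent.HSR.A1.act 4 true [(14, 1), (6, 0), (12, 1), (13, 0), (15, 1), (16, 0), (22, 0)] [] 0 (ones 448) = true :=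
  by decide +kernel

theorem done_j4 : doneC.JustS Cfsg.Agent.HSR.A1.π 4 (ones 448) :=
  TC.cover_step Cfsg.Agent.HSR.A1.spec done_s (TC.justS_zero 4) done_c4_0

theorem done_c5_0 : doneC.coverC Cfsg.Agent.HSR.A1.act 5 true [(14, 0), (7, 0), (12, 3), (13, 2), (15, 3), (16, 2), (21, 3)] [] 0 (ones 448) = true :=
  by decide +kernel

theorem done_j5 : doneC.JustS Cfsg.Agent.HSR.A1.π 5 (ones 448) :=
  TC.cover_step Cfsg.Agent.HSR.A1.spec done_s (TC.justS_zero 5) done_c5_0

theorem done_c6_0 : doneC.coverC Cfsg.Agent.HSR.A1.act 6 true [(20, 1), (18, 0), (24, 0), (27, 0)] [(false, 19, 1, 52), (false, 19, 1, 167), (false, 19, 1, 366), (false, 19, 1, 310), (false, 19, 1, 57), (false, 19, 1, 116), (false, 19, 1, 168), (false, 19, 1, 439), (false, 21, 0, 293), (false, 21, 0, 101), (false, 21, 0, 193), (false, 21, 0, 374), (false, 21, 0, 404), (false, 21, 0, 436), (false, 21, 0, 375), (false, 22, 1, 66), (false, 22, 1, 228), (false, 22, 1, 310), (false, 22, 1,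 273), (false, 22, 1, 323), (false, 22, 1, 126), (false, 22, 1, 290), (false, 22, 1, 180), (false, 22, 1, 407)] 0 (ones 448) = true :=
  by decide +kernel

theorem done_j6 : doneC.JustS Cfsg.Agent.HSR.A1.π 6 (ones 448) :=
  TC.cover_step Cfsg.Agent.HSR.A1.spec done_s (TC.justS_zero 6) done_c6_0

theorem done_c7_0 : doneC.coverC Cfsg.Agent.HSR.A1.act 7 true [(20, 0), (18, 2), (19, 3), (21, 2), (22, 3)] [] 0 (ones 448) = true :=
  by decide +kernel

theorem done_j7 : doneC.JustS Cfsg.Agent.HSR.A1.π 7 (ones 448) :=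
  TC.cover_step Cfsg.Agent.HSR.A1.spec done_s (TC.justS_zero 7) done_c7_0

theorem done : doneC.Done Cfsg.Agent.HSR.A1.π :=
  TC.done_of Cfsg.Agent.HSR.A1.spec sat done_s ⟨done_j0, done_j1, done_j2, done_j3, done_j4, done_j5, done_j6, done_j7, trivial⟩

end A1

theorem b1 : Bound P1 448 :=
  A1.done.bound_bot rfl

namespace A2
noncomputable def net0 : Net := .nil

theorem ok0 : Net.ok 24 net0 = true :=
  by decide +kernel

noncomputable def net1 : Net := .nil

theorem ok1 : Net.ok 24 net1 = true :=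
  by decide +kernel

noncomputable def net2 : Net := .nil

theorem ok2 : Net.ok 24 net2 = true :=
  by decide +kernel

noncomputable def net3 : Net := .nil

theorem ok3 : Net.ok 24 net3 = true :=
  by decide +kernel

noncomputable def net4 : Net := .nil

theorem ok4 : Net.ok 24 net4 = true :=
  by decide +kernel

noncomputable def net5 : Net := .nil

theorem ok5 : Net.ok 24 net5 = true :=
  by decide +kernel

noncomputable def m6_0 : ℕ := nat_lit 0xadc

noncomputable def m6_1 : ℕ := nat_lit 0x1b038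

noncomputable def m6_2 : ℕ := nat_lit 0x1c71c1

noncomputable def m6_3 : ℕ := nat_lit 0x240001

noncomputable def m6_4 : ℕ := nat_lit 0x492012

noncomputable def m6_5 : ℕ := nat_lit 0x9008

noncomputable def m6_6 : ℕ := nat_lit 0x6

noncomputable def m6_7 : ℕ := nat_lit 0x24038

noncomputable def m6_8 : ℕ := nat_lit 0xadc

noncomputable def net6 : Net := (.cons 12 m6_0 (.cons 6 m6_1 (.cons 3 m6_2 (.cons 1 m6_3 (.cons 1 m6_4 (.cons 1 m6_5 (.cons 3 m6_6 (.cons 6 m6_7 (.cons 12 m6_8 .nil)))))))))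

theorem ok6 : Net.ok 24 net6 = true :=
  by decide +kernel

noncomputable def m7_0 : ℕ := nat_lit 0x928

noncomputable def m7_1 : ℕ := nat_lit 0xd024

noncomputable def m7_2 : ℕ := nat_lit 0x180186

noncomputable def m7_3 : ℕ := nat_lit 0x1240

noncomputable def m7_4 : ℕ := nat_lit 0x12490

noncomputable def m7_5 : ℕ := nat_lit 0x209008

noncomputable def m7_6 : ℕ := nat_lit 0x80004

noncomputable def m7_7 : ℕ := nat_lit 0x26032

noncomputable def m7_8 : ℕ := nat_lit 0x80a

noncomputable def net7 : Net := (.cons 12 m7_0 (.cons 6 m7_1 (.cons 3 m7_2 (.cons 1 m7_3 (.cons 1 m7_4 (.cons 1 m7_5 (.cons 3 m7_6 (.cons 6 m7_7 (.cons 12 m7_8 .nil)))))))))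

theorem ok7 : Net.ok 24 net7 = true :=
  by decide +kernel

noncomputable def net8 : Net := (.cons 12 m7_8 (.cons 6 m7_7 (.cons 3 m7_6 (.cons 1 m7_5 (.cons 1 m7_4 (.cons 1 m7_3 (.cons 3 m7_2 (.cons 6 m7_1 (.cons 12 m7_0 .nil)))))))))

theorem ok8 : Net.ok 24 net8 = true :=
  by decide +kernel

noncomputable def nets : List Net := [net0, net1, net2, net3, net4, net5, net6, net7, net8]

noncomputable def act : Act := netAct' nets
noncomputable def π : ℕ → Equiv.Perm ℕ := netPerm nets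

theorem spec : act.Spec 24 π :=
  spec_fast (netAct_spec (AllP.forall (p := fun t => Net.ok 24 t = true) ⟨ok0, ok1, ok2, ok3, ok4, ok5, ok6, ok7, ok8, trivial⟩))

theorem out : ∀ k, 9 ≤ k → π k = 1 :=
  netPerm_out nets

theorem sat_inv_0 : invC Cfsg.Agent.HSR.A2.act Cfsg.Agent.HSR.PM.I 24 5 Cfsg.Agent.HSR.PM.inv.length [0, 1, 2, 3, 4] = true :=
  by decide +kernel

theorem sat_inv : ∀ k, Cfsg.Agent.HSR.A2.π (Cfsg.Agent.HSR.PM.I k) * Cfsg.Agent.HSR.A2.π k = 1 :=
  inv_of_checks Cfsg.Agent.HSR.A2.spec (K := 5) (by decide) Cfsg.Agent.HSR.A2.out [[0, 1, 2, 3, 4]] (by decide) ⟨sat_inv_0, trivial⟩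

theorem sat_rel_0_0 : relsC Cfsg.Agent.HSR.A2.act Cfsg.Agent.HSR.PM.I 24 5 [[0, 0, 0, 0], [2, 2, 2, 2], [4, 4, 4, 4], [0, 2, 1, 3], [0, 4, 1, 5], [2, 4, 3, 5], [7, 0, 8, 3], [7, 2, 8, 5], [7, 4, 8, 5, 3, 3, 1], [6, 0, 6, 3], [6, 4, 6, 4], [7, 7, 7, 7, 7, 7, 7], [6, 7, 6, 7, 6, 7], [7, 6, 8, 6, 7, 6, 8, 6, 7, 6, 8, 6, 7, 6, 8, 6]] [0, 1, 2, 3, 4] = true :=
  by decide +kernel

theorem sat_rel_0 : ∀ r ∈ ([[0, 0, 0, 0], [2, 2, 2, 2], [4, 4, 4, 4], [0, 2, 1, 3], [0, 4, 1, 5], [2, 4, 3, 5], [7, 0, 8, 3], [7, 2, 8, 5], [7, 4, 8, 5, 3, 3, 1], [6, 0, 6, 3], [6, 4, 6, 4], [7, 7, 7, 7, 7, 7, 7], [6, 7, 6, 7, 6, 7], [7, 6, 8, 6, 7, 6, 8, 6, 7, 6, 8, 6, 7, 6, 8, 6]] : List (List ℕ)), ev Cfsg.Agent.HSR.A2.π r = 1 :=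
  rels_of_checks Cfsg.Agent.HSR.A2.spec (K := 5) (by decide) sat_inv _ [[0, 1, 2, 3, 4]] (by decide) ⟨sat_rel_0_0, trivial⟩

theorem sat_rel : ∀ r ∈ ([[0, 0, 0, 0], [2, 2, 2, 2], [4, 4, 4, 4], [0, 2, 1, 3], [0, 4, 1, 5], [2, 4, 3, 5], [7, 0, 8, 3], [7, 2, 8, 5], [7, 4, 8, 5, 3, 3, 1], [6, 0, 6, 3], [6, 4, 6, 4], [7, 7, 7, 7, 7, 7, 7], [6, 7, 6, 7, 6, 7], [7, 6, 8, 6, 7, 6, 8, 6, 7, 6, 8, 6, 7, 6, 8, 6]] : List (List ℕ)), ev Cfsg.Agent.HSR.A2.π r = 1 :=
  rels_join [[[0, 0, 0, 0], [2, 2, 2, 2], [4, 4, 4, 4], [0, 2, 1, 3], [0, 4, 1, 5], [2, 4, 3, 5], [7, 0, 8, 3], [7, 2, 8, 5], [7, 4, 8, 5, 3, 3, 1], [6, 0, 6, 3], [6, 4, 6, 4], [7, 7, 7, 7, 7, 7, 7], [6, 7, 6, 7, 6, 7], [7, 6, 8, 6, 7, 6, 8, 6, 7, 6, 8, 6, 7, 6, 8, 6]]] ⟨sat_rel_0, trivial⟩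

theorem sat : Sat Cfsg.Agent.HSR.PM Cfsg.Agent.HSR.A2.π :=
  ⟨Cfsg.Agent.HSR.A2.out, sat_inv, sat_rel⟩

noncomputable def done_tr0 : ℕ := nat_lit 0xf3ef6a

noncomputable def done_tr1 : ℕ := nat_lit 0xc26942

noncomputable def done_tr2 : ℕ := nat_lit 0xc26942

noncomputable def done_tr3 : ℕ := nat_lit 0x3d96bc

noncomputable def done_t0_0 : ℕ := nat_lit 0x2f6ae5

noncomputable def done_t0_1 : ℕ := nat_lit 0xd6cb26

noncomputable def done_t0_2 : ℕ := nat_lit 0x64bf8

noncomputable def done_t0_3 : ℕ := nat_lit 0xf9b400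

noncomputable def done_t1_0 : ℕ := nat_lit 0xe78405

noncomputable def done_t1_1 : ℕ := nat_lit 0xde05e6

noncomputable def done_t1_2 : ℕ := nat_lit 0x605f8

noncomputable def done_t1_3 : ℕ := nat_lit 0xf9fa00

noncomputable def done_t2_0 : ℕ := nat_lit 0x412ffd

noncomputable def done_t2_1 : ℕ := nat_lit 0xf41f8e

noncomputable def done_t2_2 : ℕ := nat_lit 0x1ff0

noncomputable def done_t2_3 : ℕ := nat_lit 0xffe000

noncomputable def done_t3_0 : ℕ := nat_lit 0x74016d

noncomputable def done_t3_1 : ℕ := nat_lit 0xc01d8e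

noncomputable def done_t3_2 : ℕ := nat_lit 0x1df0

noncomputable def done_t3_3 : ℕ := nat_lit 0xffe200

noncomputable def done_t4_0 : ℕ := nat_lit 0x33e19d

noncomputable def done_t4_1 : ℕ := nat_lit 0xc1e6ce

noncomputable def done_t4_2 : ℕ := nat_lit 0x1e7f0

noncomputable def done_t4_3 : ℕ := nat_lit 0xfe1800

noncomputable def done_t5_0 : ℕ := nat_lit 0x9c7949

noncomputable def done_t5_1 : ℕ := nat_lit 0xe2665a

noncomputable def done_t5_2 : ℕ := nat_lit 0x6774

noncomputable def done_t5_3 : ℕ := nat_lit 0xff9880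

noncomputable def done_t6_0 : ℕ := nat_lit 0x3516b1

noncomputable def done_t6_1 : ℕ := nat_lit 0x1000c

noncomputable def done_t6_2 : ℕ := nat_lit 0xc8000

noncomputable def done_t6_3 : ℕ := nat_lit 0

noncomputable def done_t7_0 : ℕ := nat_lit 0x838d6b

noncomputable def done_t7_1 : ℕ := nat_lit 0x426300

noncomputable def done_t7_2 : ℕ := nat_lit 0xf00000

noncomputable def done_t7_3 : ℕ := nat_lit 0

noncomputable def done_t8_0 : ℕ := nat_lit 0xc31d7

noncomputable def done_t8_1 : ℕ := nat_lit 0xc208c0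

noncomputable def done_t8_2 : ℕ := nat_lit 0xcc4000

noncomputable def done_t8_3 : ℕ := nat_lit 0

noncomputable def doneC : TC := ⟨Cfsg.Agent.HSR.PM, [[0], [1], [2], [3], [4], [5], [7], [8]], 24, 24, 5, 4, [done_tr0, done_tr1, done_tr2, done_tr3],
  [[done_t0_0, done_t0_1, done_t0_2, done_t0_3],
   [done_t1_0, done_t1_1, done_t1_2, done_t1_3],
   [done_t2_0, done_t2_1, done_t2_2, done_t2_3],
   [done_t3_0, done_t3_1, done_t3_2, done_t3_3],
   [done_t4_0, done_t4_1, done_t4_2, done_t4_3],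
   [done_t5_0, done_t5_1, done_t5_2, done_t5_3],
   [done_t6_0, done_t6_1, done_t6_2, done_t6_3],
   [done_t7_0, done_t7_1, done_t7_2, done_t7_3],
   [done_t8_0, done_t8_1, done_t8_2, done_t8_3]]⟩

theorem done_s : doneC.structC Cfsg.Agent.HSR.A2.act = true :=
  by decide +kernel

theorem done_c0_0 : doneC.coverC Cfsg.Agent.HSR.A2.act 0 true [(18, 1)] [(true, 0, 0, 0), (false, 2, 1, 5), (false, 2, 1, 10), (false, 2, 1, 13), (false, 2, 1, 15), (false, 27, 1, 0), (false, 27, 1, 2), (false, 27, 1, 4), (false, 27, 1, 7), (false, 27, 1, 19), (false, 27, 1, 12), (false, 27, 1, 20), (false, 27, 1, 21)] 0 (ones 24) = true :=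
  by decide +kernel

theorem done_j0 : doneC.JustS Cfsg.Agent.HSR.A2.π 0 (ones 24) :=
  TC.cover_step Cfsg.Agent.HSR.A2.spec done_s (TC.justS_zero 0) done_c0_0

theorem done_c1_0 : doneC.coverC Cfsg.Agent.HSR.A2.act 1 true [] [(true, 1, 0, 0), (false, 2, 0, 6), (false, 2, 0, 7), (false, 2, 0, 9), (false, 2, 0, 11), (false, 2, 0, 14), (false, 2, 0, 19), (false, 2, 0, 22), (false, 2, 0, 23), (false, 19, 2, 1), (false, 19, 2, 2), (false, 19, 2, 6), (false, 19, 2, 8), (false, 19, 2, 12), (false, 19, 2, 19), (false, 28, 2, 0), (false, 28, 2, 2), (false, 28, 2, 9), (false, 28, 2, 19), (false, 28, 2, 12), (false, 24, 6, 5), (false, 24, 6, 10), (false, 24, 6, 15), (false, 24, 6, 20)] 0 (ones 24) = true :=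
  by decide +kernel

theorem done_j1 : doneC.JustS Cfsg.Agent.HSR.A2.π 1 (ones 24) :=
  TC.cover_step Cfsg.Agent.HSR.A2.spec done_s (TC.justS_zero 1) done_c1_0

theorem done_c2_0 : doneC.coverC Cfsg.Agent.HSR.A2.act 2 true [(8, 1)] [(true, 2, 0, 0), (false, 19, 0, 3), (false, 19, 0, 5), (false, 19, 0, 9), (false, 19, 0, 14), (false, 19, 0, 15), (false, 21, 1, 1), (false, 21, 1, 8), (false, 21, 1, 14), (false, 21, 1, 13), (false, 21, 1, 22), (false, 28, 0, 1), (false, 28, 0, 6), (false, 28, 0, 8), (false, 28, 0, 23)] 0 (ones 24) = true :=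
  by decide +kernel

theorem done_j2 : doneC.JustS Cfsg.Agent.HSR.A2.π 2 (ones 24) :=
  TC.cover_step Cfsg.Agent.HSR.A2.spec done_s (TC.justS_zero 2) done_c2_0

theorem done_c3_0 : doneC.coverC Cfsg.Agent.HSR.A2.act 3 true [(22, 2)] [(true, 3, 0, 0), (false, 8, 0, 9), (false, 18, 3, 3), (false, 18, 3, 5), (false, 18, 3, 10), (false, 18, 3, 14), (false, 18, 3, 16), (false, 18, 3, 22), (false, 27, 3, 1), (false, 27, 3, 6), (false, 27, 3, 11), (false, 27, 3, 13), (false, 27, 3, 15), (false, 27, 3, 23)] 0 (ones 24) = true :=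
  by decide +kernel

theorem done_j3 : doneC.JustS Cfsg.Agent.HSR.A2.π 3 (ones 24) :=
  TC.cover_step Cfsg.Agent.HSR.A2.spec done_s (TC.justS_zero 3) done_c3_0

theorem done_c4_0 : doneC.coverC Cfsg.Agent.HSR.A2.act 4 true [(22, 0), (30, 1)] [(true, 4, 0, 0), (false, 24, 1, 1), (false, 24, 1, 2), (false, 24, 1, 4), (false, 24, 1, 8)] 0 (ones 24) = true :=
  by decide +kernel

theorem done_j4 : doneC.JustS Cfsg.Agent.HSR.A2.π 4 (ones 24) :=
  TC.cover_step Cfsg.Agent.HSR.A2.spec done_s (TC.justS_zero 4) done_c4_0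

theorem done_c5_0 : doneC.coverC Cfsg.Agent.HSR.A2.act 5 true [(14, 0)] [(true, 5, 0, 0), (false, 21, 3, 3), (false, 21, 3, 5), (false, 21, 3, 9), (false, 21, 3, 10), (false, 21, 3, 20), (false, 31, 0, 1), (false, 31, 0, 8), (false, 31, 0, 13), (false, 31, 0, 14), (false, 31, 0, 22)] 0 (ones 24) = true :=
  by decide +kernel

theorem done_j5 : doneC.JustS Cfsg.Agent.HSR.A2.π 5 (ones 24) :=
  TC.cover_step Cfsg.Agent.HSR.A2.spec done_s (TC.justS_zero 5) done_c5_0

theorem done_c6_0 : doneC.coverC Cfsg.Agent.HSR.A2.act 6 true [(20, 0)] [(false, 36, 0, 2), (false, 36, 0, 18), (false, 36, 0, 19), (false, 37, 1, 1)] 0 (ones 24) = true :=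
  by decide +kernel

theorem done_j6 : doneC.JustS Cfsg.Agent.HSR.A2.π 6 (ones 24) :=
  TC.cover_step Cfsg.Agent.HSR.A2.spec done_s (TC.justS_zero 6) done_c6_0

theorem done_c7_0 : doneC.coverC Cfsg.Agent.HSR.A2.act 7 true [] [(true, 6, 0, 0), (false, 23, 1, 1), (false, 23, 1, 3), (false, 23, 1, 5), (false, 23, 1, 6), (false, 23, 1, 10), (false, 23, 1, 11), (false, 23, 1, 15), (false, 23, 1, 16), (false, 36, 1, 4), (false, 36, 1, 12), (false, 36, 1, 7), (false, 36, 1, 20), (false, 36, 1, 21), (false, 33, 0, 7), (false, 33, 0, 18), (false, 33, 0, 19), (false, 39, 0, 14)] 0 (ones 24) = true :=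
  by decide +kernel

theorem done_j7 : doneC.JustS Cfsg.Agent.HSR.A2.π 7 (ones 24) :=
  TC.cover_step Cfsg.Agent.HSR.A2.spec done_s (TC.justS_zero 7) done_c7_0

theorem done_c8_0 : doneC.coverC Cfsg.Agent.HSR.A2.act 8 true [(23, 0)] [(true, 7, 0, 0), (false, 37, 0, 8), (false, 37, 0, 14), (false, 37, 0, 13), (false, 37, 0, 22)] 0 (ones 24) = true :=
  by decide +kernel

theorem done_j8 : doneC.JustS Cfsg.Agent.HSR.A2.π 8 (ones 24) :=
  TC.cover_step Cfsg.Agent.HSR.A2.spec done_s (TC.justS_zero 8) done_c8_0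

theorem done : doneC.Done Cfsg.Agent.HSR.A2.π :=
  TC.done_of Cfsg.Agent.HSR.A2.spec sat done_s ⟨done_j0, done_j1, done_j2, done_j3, done_j4, done_j5, done_j6, done_j7, done_j8, trivial⟩

end A2

theorem iA2 : Impl Cfsg.Agent.HSR.PM Cfsg.Agent.HSR.P1 [[0], [1], [2], [3], [4], [5], [7], [8]] :=
  impl_of_subC (P := Cfsg.Agent.HSR.PM) (c1 := [(42, 0), (42, 0), (42, 0), (42, 0), (42, 0), (42, 0), (42, 0), (42, 0)]) (c2 := [(0, 0), (3, 0), (6, 0), (9, 0), (12, 0), (15, 0), (18, 0), (21, 0), (24, 0), (33, 0)]) (by decide +kernel)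

theorem bM : Bound Cfsg.Agent.HSR.PM 10752 :=
  A2.done.bound' b1 iA2 ⟨inSub_of_mem (by decide), inSub_of_mem (by decide), inSub_of_mem (by decide), inSub_of_mem (by decide), inSub_of_mem (by decide), inSub_of_mem (by decide), inSub_of_mem (by decide), inSub_of_mem (by decide), trivial⟩

namespace A3
noncomputable def net0 : Net := .nil

theorem ok0 : Net.ok 24 net0 = true :=
  by decide +kernel

noncomputable def net1 : Net := .nil

theorem ok1 : Net.ok 24 net1 = true :=
  by decide +kernel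

noncomputable def net2 : Net := .nil

theorem ok2 : Net.ok 24 net2 = true :=
  by decide +kernel

noncomputable def net3 : Net := .nil

theorem ok3 : Net.ok 24 net3 = true :=
  by decide +kernel

noncomputable def net4 : Net := .nil

theorem ok4 : Net.ok 24 net4 = true :=
  by decide +kernel

noncomputable def net5 : Net := .nil

theorem ok5 : Net.ok 24 net5 = true :=
  by decide +kernel

noncomputable def m6_0 : ℕ := nat_lit 0xadc

noncomputable def m6_1 : ℕ := nat_lit 0x1b038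

noncomputable def m6_2 : ℕ := nat_lit 0x1c71c1

noncomputable def m6_3 : ℕ := nat_lit 0x240001

noncomputable def m6_4 : ℕ := nat_lit 0x492012

noncomputable def m6_5 : ℕ := nat_lit 0x9008

noncomputable def m6_6 : ℕ := nat_lit 0x6

noncomputable def m6_7 : ℕ := nat_lit 0x24038

noncomputable def m6_8 : ℕ := nat_lit 0xadc

noncomputable def net6 : Net := (.cons 12 m6_0 (.cons 6 m6_1 (.cons 3 m6_2 (.cons 1 m6_3 (.cons 1 m6_4 (.cons 1 m6_5 (.cons 3 m6_6 (.cons 6 m6_7 (.cons 12 m6_8 .nil)))))))))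

theorem ok6 : Net.ok 24 net6 = true :=
  by decide +kernel

noncomputable def m7_0 : ℕ := nat_lit 0x928

noncomputable def m7_1 : ℕ := nat_lit 0xd024

noncomputable def m7_2 : ℕ := nat_lit 0x180186

noncomputable def m7_3 : ℕ := nat_lit 0x1240

noncomputable def m7_4 : ℕ := nat_lit 0x12490

noncomputable def m7_5 : ℕ := nat_lit 0x209008

noncomputable def m7_6 : ℕ := nat_lit 0x80004

noncomputable def m7_7 : ℕ := nat_lit 0x26032

noncomputable def m7_8 : ℕ := nat_lit 0x80a

noncomputable def net7 : Net := (.cons 12 m7_0 (.cons 6 m7_1 (.cons 3 m7_2 (.cons 1 m7_3 (.cons 1 m7_4 (.cons 1 m7_5 (.cons 3 m7_6 (.cons 6 m7_7 (.cons 12 m7_8 .nil)))))))))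

theorem ok7 : Net.ok 24 net7 = true :=
  by decide +kernel

noncomputable def net8 : Net := (.cons 12 m7_8 (.cons 6 m7_7 (.cons 3 m7_6 (.cons 1 m7_5 (.cons 1 m7_4 (.cons 1 m7_3 (.cons 3 m7_2 (.cons 6 m7_1 (.cons 12 m7_0 .nil)))))))))

theorem ok8 : Net.ok 24 net8 = true :=
  by decide +kernel

noncomputable def nets : List Net := [net0, net1, net2, net3, net4, net5, net6, net7, net8]

noncomputable def act : Act := netAct' nets
noncomputable def π : ℕ → Equiv.Perm ℕ := netPerm nets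

theorem spec : act.Spec 24 π :=
  spec_fast (netAct_spec (AllP.forall (p := fun t => Net.ok 24 t = true) ⟨ok0, ok1, ok2, ok3, ok4, ok5, ok6, ok7, ok8, trivial⟩))

theorem out : ∀ k, 9 ≤ k → π k = 1 :=
  netPerm_out nets

theorem sat_inv_0 : invC Cfsg.Agent.HSR.A3.act Cfsg.Agent.HSR.PM2.I 24 5 Cfsg.Agent.HSR.PM2.inv.length [0, 1, 2, 3, 4] = true :=
  by decide +kernel

theorem sat_inv : ∀ k, Cfsg.Agent.HSR.A3.π (Cfsg.Agent.HSR.PM2.I k) * Cfsg.Agent.HSR.A3.π k = 1 :=
  inv_of_checks Cfsg.Agent.HSR.A3.spec (K := 5) (by decide) Cfsg.Agent.HSR.A3.out [[0, 1, 2, 3, 4]] (by decide) ⟨sat_inv_0, trivial⟩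

theorem sat_rel_0_0 : relsC Cfsg.Agent.HSR.A3.act Cfsg.Agent.HSR.PM2.I 24 5 [[0, 0, 0, 0], [2, 2, 2, 2], [4, 4, 4, 4], [0, 2, 1, 3], [0, 4, 1, 5], [2, 4, 3, 5], [7, 0, 8, 3], [7, 2, 8, 5], [7, 4, 8, 5, 3, 3, 1], [6, 0, 6, 3], [6, 4, 6, 4], [7, 7, 7, 7, 7, 7, 7], [6, 7, 6, 7, 6, 7], [7, 6, 8, 6, 7, 6, 8, 6, 7, 6, 8, 6, 7, 6, 8, 6, 0, 0, 2, 2]] [0, 1, 2, 3, 4] = true :=
  by decide +kernel

theorem sat_rel_0 : ∀ r ∈ ([[0, 0, 0, 0], [2, 2, 2, 2], [4, 4, 4, 4], [0, 2, 1, 3], [0, 4, 1, 5], [2, 4, 3, 5], [7, 0, 8, 3], [7, 2, 8, 5], [7, 4, 8, 5, 3, 3, 1], [6, 0, 6, 3], [6, 4, 6, 4], [7, 7, 7, 7, 7, 7, 7], [6, 7, 6, 7, 6, 7], [7, 6, 8, 6, 7, 6, 8, 6, 7, 6, 8, 6, 7, 6, 8, 6, 0, 0, 2, 2]] : List (List ℕ)), ev Cfsg.Agent.HSR.A3.π r = 1 :=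
  rels_of_checks Cfsg.Agent.HSR.A3.spec (K := 5) (by decide) sat_inv _ [[0, 1, 2, 3, 4]] (by decide) ⟨sat_rel_0_0, trivial⟩

theorem sat_rel : ∀ r ∈ ([[0, 0, 0, 0], [2, 2, 2, 2], [4, 4, 4, 4], [0, 2, 1, 3], [0, 4, 1, 5], [2, 4, 3, 5], [7, 0, 8, 3], [7, 2, 8, 5], [7, 4, 8, 5, 3, 3, 1], [6, 0, 6, 3], [6, 4, 6, 4], [7, 7, 7, 7, 7, 7, 7], [6, 7, 6, 7, 6, 7], [7, 6, 8, 6, 7, 6, 8, 6, 7, 6, 8, 6, 7, 6, 8, 6, 0, 0, 2, 2]] : List (List ℕ)), ev Cfsg.Agent.HSR.A3.π r = 1 :=
  rels_join [[[0, 0, 0, 0], [2, 2, 2, 2], [4, 4, 4, 4], [0, 2, 1, 3], [0, 4, 1, 5], [2, 4, 3, 5], [7, 0, 8, 3], [7, 2, 8, 5], [7, 4, 8, 5, 3, 3, 1], [6, 0, 6, 3], [6, 4, 6, 4], [7, 7, 7, 7, 7, 7, 7], [6, 7, 6, 7, 6, 7], [7, 6, 8, 6, 7, 6, 8, 6, 7, 6, 8, 6, 7, 6, 8, 6, 0, 0, 2, 2]]] ⟨sat_rel_0, trivial⟩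

theorem sat : Sat Cfsg.Agent.HSR.PM2 Cfsg.Agent.HSR.A3.π :=
  ⟨Cfsg.Agent.HSR.A3.out, sat_inv, sat_rel⟩

noncomputable def done_tr0 : ℕ := nat_lit 0xf3ef6a

noncomputable def done_tr1 : ℕ := nat_lit 0xc26942

noncomputable def done_tr2 : ℕ := nat_lit 0xc26942

noncomputable def done_tr3 : ℕ := nat_lit 0x3d96bc

noncomputable def done_t0_0 : ℕ := nat_lit 0x8feae5

noncomputable def done_t0_1 : ℕ := nat_lit 0x96cb26

noncomputable def done_t0_2 : ℕ := nat_lit 0x664bf8

noncomputable def done_t0_3 : ℕ := nat_lit 0xf9b400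

noncomputable def done_t1_0 : ℕ := nat_lit 0xb70405

noncomputable def done_t1_1 : ℕ := nat_lit 0xbe85e6

noncomputable def done_t1_2 : ℕ := nat_lit 0x4605f8

noncomputable def done_t1_3 : ℕ := nat_lit 0xf9fa00

noncomputable def done_t2_0 : ℕ := nat_lit 0x132ffd

noncomputable def done_t2_1 : ℕ := nat_lit 0x341f8e

noncomputable def done_t2_2 : ℕ := nat_lit 0xc01ff0

noncomputable def done_t2_3 : ℕ := nat_lit 0xffe000

noncomputable def done_t3_0 : ℕ := nat_lit 0xd6c16d

noncomputable def done_t3_1 : ℕ := nat_lit 0x701d8e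

noncomputable def done_t3_2 : ℕ := nat_lit 0x801df0

noncomputable def done_t3_3 : ℕ := nat_lit 0xffe200

noncomputable def done_t4_0 : ℕ := nat_lit 0x63e19d

noncomputable def done_t4_1 : ℕ := nat_lit 0xd5e6ce

noncomputable def done_t4_2 : ℕ := nat_lit 0x1e7f0

noncomputable def done_t4_3 : ℕ := nat_lit 0xfe1800

noncomputable def done_t5_0 : ℕ := nat_lit 0x9c7949

noncomputable def done_t5_1 : ℕ := nat_lit 0xe6665a

noncomputable def done_t5_2 : ℕ := nat_lit 0x6774

noncomputable def done_t5_3 : ℕ := nat_lit 0xff9880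

noncomputable def done_t6_0 : ℕ := nat_lit 0x3516b1

noncomputable def done_t6_1 : ℕ := nat_lit 0x5800c

noncomputable def done_t6_2 : ℕ := nat_lit 0x80000

noncomputable def done_t6_3 : ℕ := nat_lit 0x48000

noncomputable def done_t7_0 : ℕ := nat_lit 0x838d6b

noncomputable def done_t7_1 : ℕ := nat_lit 0xa06300

noncomputable def done_t7_2 : ℕ := nat_lit 0x500000

noncomputable def done_t7_3 : ℕ := nat_lit 0xe20000

noncomputable def done_t8_0 : ℕ := nat_lit 0x4c31d7

noncomputable def done_t8_1 : ℕ := nat_lit 0x4a48c0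

noncomputable def done_t8_2 : ℕ := nat_lit 0x840000

noncomputable def done_t8_3 : ℕ := nat_lit 0xc84000

noncomputable def doneC : TC := ⟨Cfsg.Agent.HSR.PM2, [[0], [1], [2], [3], [4], [5], [7], [8]], 24, 24, 5, 4, [done_tr0, done_tr1, done_tr2, done_tr3],
  [[done_t0_0, done_t0_1, done_t0_2, done_t0_3],
   [done_t1_0, done_t1_1, done_t1_2, done_t1_3],
   [done_t2_0, done_t2_1, done_t2_2, done_t2_3],
   [done_t3_0, done_t3_1, done_t3_2, done_t3_3],
   [done_t4_0, done_t4_1, done_t4_2, done_t4_3],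
   [done_t5_0, done_t5_1, done_t5_2, done_t5_3],
   [done_t6_0, done_t6_1, done_t6_2, done_t6_3],
   [done_t7_0, done_t7_1, done_t7_2, done_t7_3],
   [done_t8_0, done_t8_1, done_t8_2, done_t8_3]]⟩

theorem done_s : doneC.structC Cfsg.Agent.HSR.A3.act = true :=
  by decide +kernel

theorem done_c0_0 : doneC.coverC Cfsg.Agent.HSR.A3.act 0 true [(18, 1)] [(true, 0, 0, 0), (false, 2, 1, 5), (false, 2, 1, 10), (false, 2, 1, 13), (false, 2, 1, 15), (false, 2, 1, 21), (false, 27, 1, 0), (false, 27, 1, 2), (false, 27, 1, 4), (false, 27, 1, 7), (false, 27, 1, 19), (false, 27, 1, 12), (false, 27, 1, 20), (false, 27, 1, 21)] 0 (ones 24) = true :=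
  by decide +kernel

theorem done_j0 : doneC.JustS Cfsg.Agent.HSR.A3.π 0 (ones 24) :=
  TC.cover_step Cfsg.Agent.HSR.A3.spec done_s (TC.justS_zero 0) done_c0_0

theorem done_c1_0 : doneC.coverC Cfsg.Agent.HSR.A3.act 1 true [] [(true, 1, 0, 0), (false, 2, 0, 6), (false, 2, 0, 7), (false, 2, 0, 9), (false, 2, 0, 11), (false, 2, 0, 14), (false, 2, 0, 19), (false, 2, 0, 20), (false, 19, 2, 1), (false, 19, 2, 2), (false, 19, 2, 6), (false, 19, 2, 8), (false, 19, 2, 12), (false, 28, 2, 0), (false, 28, 2, 2), (false, 28, 2, 9), (false, 28, 2, 19), (false, 28, 2, 12), (false, 28, 2, 20), (false, 28, 2, 21), (false, 24, 6, 5), (false, 24, 6, 10), (false, 24, 6, 15), (false, 24, 6, 21)] 0 (ones 24) = true :=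
  by decide +kernel

theorem done_j1 : doneC.JustS Cfsg.Agent.HSR.A3.π 1 (ones 24) :=
  TC.cover_step Cfsg.Agent.HSR.A3.spec done_s (TC.justS_zero 1) done_c1_0

theorem done_c2_0 : doneC.coverC Cfsg.Agent.HSR.A3.act 2 true [] [(true, 2, 0, 0), (false, 8, 1, 4), (false, 8, 1, 7), (false, 8, 1, 10), (false, 8, 1, 11), (false, 8, 1, 13), (false, 8, 1, 16), (false, 8, 1, 18), (false, 8, 1, 22), (false, 19, 0, 3), (false, 19, 0, 5), (false, 19, 0, 9), (false, 19, 0, 15), (false, 19, 0, 17), (false, 19, 0, 20), (false, 19, 0, 21), (false, 21, 1, 1), (false, 21, 1, 8), (false, 21, 1, 13), (false, 28, 0, 1), (false, 28, 0, 6), (false, 28, 0, 8), (false, 28, 0, 14), (false, 28, 0, 23)] 0 (ones 24) = true :=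
  by decide +kernel

theorem done_j2 : doneC.JustS Cfsg.Agent.HSR.A3.π 2 (ones 24) :=
  TC.cover_step Cfsg.Agent.HSR.A3.spec done_s (TC.justS_zero 2) done_c2_0

theorem done_c3_0 : doneC.coverC Cfsg.Agent.HSR.A3.act 3 true [] [(true, 3, 0, 0), (false, 8, 0, 9), (false, 8, 0, 14), (false, 8, 0, 15), (false, 8, 0, 23), (false, 18, 3, 3), (false, 18, 3, 5), (false, 18, 3, 10), (false, 18, 3, 16), (false, 18, 3, 21), (false, 22, 2, 1), (false, 22, 2, 2), (false, 22, 2, 4), (false, 22, 2, 6), (false, 22, 2, 8), (false, 22, 2, 12), (false, 22, 2, 13), (false, 22, 2, 18), (false, 27, 3, 1), (false, 27, 3, 6), (false, 27, 3, 11), (false, 27, 3, 13), (false, 27, 3, 17), (false, 27, 3, 22)] 0 (ones 24) = true :=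
  by decide +kernel

theorem done_j3 : doneC.JustS Cfsg.Agent.HSR.A3.π 3 (ones 24) :=
  TC.cover_step Cfsg.Agent.HSR.A3.spec done_s (TC.justS_zero 3) done_c3_0

theorem done_c4_0 : doneC.coverC Cfsg.Agent.HSR.A3.act 4 true [] [(true, 4, 0, 0), (false, 14, 1, 20), (false, 14, 1, 22), (false, 22, 0, 3), (false, 22, 0, 5), (false, 22, 0, 9), (false, 22, 0, 10), (false, 22, 0, 15), (false, 22, 0, 16), (false, 22, 0, 17), (false, 22, 0, 21), (false, 30, 1, 0), (false, 30, 1, 4), (false, 30, 1, 5), (false, 30, 1, 7), (false, 30, 1, 9), (false, 30, 1, 10), (false, 30, 1, 16), (false, 30, 1, 21), (false, 24, 1, 1), (false, 24, 1, 2), (false, 24, 1, 4), (false, 24, 1, 8), (false, 24, 1, 12)] 0 (ones 24) = true :=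
  by decide +kernel

theorem done_j4 : doneC.JustS Cfsg.Agent.HSR.A3.π 4 (ones 24) :=
  TC.cover_step Cfsg.Agent.HSR.A3.spec done_s (TC.justS_zero 4) done_c4_0

theorem done_c5_0 : doneC.coverC Cfsg.Agent.HSR.A3.act 5 true [(14, 0)] [(true, 5, 0, 0), (false, 21, 3, 3), (false, 21, 3, 5), (false, 21, 3, 9), (false, 21, 3, 10), (false, 21, 3, 20), (false, 31, 0, 1), (false, 31, 0, 8), (false, 31, 0, 13), (false, 31, 0, 14), (false, 31, 0, 22)] 0 (ones 24) = true :=
  by decide +kernel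

theorem done_j5 : doneC.JustS Cfsg.Agent.HSR.A3.π 5 (ones 24) :=
  TC.cover_step Cfsg.Agent.HSR.A3.spec done_s (TC.justS_zero 5) done_c5_0

theorem done_c6_0 : doneC.coverC Cfsg.Agent.HSR.A3.act 6 true [(20, 0)] [(false, 36, 0, 2), (false, 36, 0, 18), (false, 36, 0, 19), (false, 37, 1, 1)] 0 (ones 24) = true :=
  by decide +kernel

theorem done_j6 : doneC.JustS Cfsg.Agent.HSR.A3.π 6 (ones 24) :=
  TC.cover_step Cfsg.Agent.HSR.A3.spec done_s (TC.justS_zero 6) done_c6_0

theorem done_c7_0 : doneC.coverC Cfsg.Agent.HSR.A3.act 7 true [(23, 1)] [(true, 6, 0, 0), (false, 36, 1, 4), (false, 36, 1, 12), (false, 36, 1, 7), (false, 36, 1, 21), (false, 33, 0, 7), (false, 33, 0, 18), (false, 33, 0, 19), (false, 39, 0, 14)] 0 (ones 24) = true :=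
  by decide +kernel

theorem done_j7 : doneC.JustS Cfsg.Agent.HSR.A3.π 7 (ones 24) :=
  TC.cover_step Cfsg.Agent.HSR.A3.spec done_s (TC.justS_zero 7) done_c7_0

theorem done_c8_0 : doneC.coverC Cfsg.Agent.HSR.A3.act 8 true [(23, 0)] [(true, 7, 0, 0), (false, 37, 0, 8), (false, 37, 0, 14), (false, 37, 0, 13), (false, 37, 0, 22)] 0 (ones 24) = true :=
  by decide +kernel

theorem done_j8 : doneC.JustS Cfsg.Agent.HSR.A3.π 8 (ones 24) :=
  TC.cover_step Cfsg.Agent.HSR.A3.spec done_s (TC.justS_zero 8) done_c8_0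

theorem done : doneC.Done Cfsg.Agent.HSR.A3.π :=
  TC.done_of Cfsg.Agent.HSR.A3.spec sat done_s ⟨done_j0, done_j1, done_j2, done_j3, done_j4, done_j5, done_j6, done_j7, done_j8, trivial⟩

end A3

theorem iA3 : Impl Cfsg.Agent.HSR.PM2 Cfsg.Agent.HSR.P1 [[0], [1], [2], [3], [4], [5], [7], [8]] :=
  impl_of_subC (P := Cfsg.Agent.HSR.PM2) (c1 := [(42, 0), (42, 0), (42, 0), (42, 0), (42, 0), (42, 0), (42, 0), (42, 0)]) (c2 := [(0, 0), (3, 0), (6, 0), (9, 0), (12, 0), (15, 0), (18, 0), (21, 0), (24, 0), (33, 0)]) (by decide +kernel)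

theorem bM2 : Bound Cfsg.Agent.HSR.PM2 10752 :=
  A3.done.bound' b1 iA3 ⟨inSub_of_mem (by decide), inSub_of_mem (by decide), inSub_of_mem (by decide), inSub_of_mem (by decide), inSub_of_mem (by decide), inSub_of_mem (by decide), inSub_of_mem (by decide), inSub_of_mem (by decide), trivial⟩

end Cfsg.Agent.HSR
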