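import Cfsg.Agent.HSR.TC
import Cfsg.Agent.HSR.TCH
import Cfsg.Agent.XSC.Tab
import Cfsg.Agent.Comp.BitMore4

set_option autoImplicit false
set_option Elab.async false
set_option maxRecDepth 100000

namespace Cfsg.Agent.HSR.Mo

open Cfsg.Agent.Comp.BN Cfsg.Agent.XSC

noncomputable def m0_0 : ℕ := nat_lit 0x7dc2db92c6fef469

noncomputable def m0_1 : ℕ := nat_lit 0x7da2d0280000000051ff7180

noncomputable def m0_2 : ℕ := nat_lit 0x39000006e54000092580000a460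

noncomputable def m0_3 : ℕ := nat_lit 0x9800c000bb00f400e0001e008e002a

noncomputable def m0_4 : ℕ := nat_lit 0x30a0806090a060309060f0b0c0e0a07

noncomputable def m0_5 : ℕ := nat_lit 0x33002003221300230221210120200020

noncomputable def m0_6 : ℕ := nat_lit 0x4501041154410141140441440150441

noncomputable def m0_7 : ℕ := nat_lit 0x2002002202200220220020000200020

noncomputable def m0_8 : ℕ := nat_lit 0x808000c08020c0806060a0c0c0806

noncomputable def m0_9 : ℕ := nat_lit 0xba004800f8007800e000aa00aa0022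

noncomputable def m0_10 : ℕ := nat_lit 0x52120000e5080000929000002460

noncomputable def m0_11 : ℕ := nat_lit 0x38a289a60000000053f775a0

noncomputable def m0_12 : ℕ := nat_lit 0x7dc2db96e65eece8

noncomputable def net0 : Net := (.cons 64 m0_0 (.cons 32 m0_1 (.cons 16 m0_2 (.cons 8 m0_3 (.cons 4 m0_4 (.cons 2 m0_5 (.cons 1 m0_6 (.cons 2 m0_7 (.cons 4 m0_8 (.cons 8 m0_9 (.cons 16 m0_10 (.cons 32 m0_11 (.cons 64 m0_12 .nil)))))))))))))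

theorem ok0 : Net.ok 128 net0 = true :=
  by decide +kernel

noncomputable def net1 : Net := (.cons 64 m0_12 (.cons 32 m0_11 (.cons 16 m0_10 (.cons 8 m0_9 (.cons 4 m0_8 (.cons 2 m0_7 (.cons 1 m0_6 (.cons 2 m0_5 (.cons 4 m0_4 (.cons 8 m0_3 (.cons 16 m0_2 (.cons 32 m0_1 (.cons 64 m0_0 .nil)))))))))))))

theorem ok1 : Net.ok 128 net1 = true :=
  by decide +kernel

noncomputable def m2_0 : ℕ := nat_lit 0x85a084630103390

noncomputable def m2_1 : ℕ := nat_lit 0x495e598d00000000a9578022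

noncomputable def m2_2 : ℕ := nat_lit 0x581a000096060000c8750000b128

noncomputable def m2_3 : ℕ := nat_lit 0x60043008a0022004200f10085009f

noncomputable def m2_4 : ℕ := nat_lit 0x808060f08090709010107000703

noncomputable def m2_5 : ℕ := nat_lit 0x11000011021002101012200212030102

noncomputable def m2_6 : ℕ := nat_lit 0x4004104401014414005145144014114

noncomputable def m2_7 : ℕ := nat_lit 0x2000000202020000000220202022202

noncomputable def m2_8 : ℕ := nat_lit 0x40008080406000a040c0e0602000206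

noncomputable def m2_9 : ℕ := nat_lit 0xe004200a000000046000600200084

noncomputable def m2_10 : ℕ := nat_lit 0x59100000b8160000fae400003700

noncomputable def m2_11 : ℕ := nat_lit 0x4906598000000000e8d2e592

noncomputable def m2_12 : ℕ := nat_lit 0x85a0842f01de068

noncomputable def net2 : Net := (.cons 64 m2_0 (.cons 32 m2_1 (.cons 16 m2_2 (.cons 8 m2_3 (.cons 4 m2_4 (.cons 2 m2_5 (.cons 1 m2_6 (.cons 2 m2_7 (.cons 4 m2_8 (.cons 8 m2_9 (.cons 16 m2_10 (.cons 32 m2_11 (.cons 64 m2_12 .nil)))))))))))))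

theorem ok2 : Net.ok 128 net2 = true :=
  by decide +kernel

noncomputable def net3 : Net := (.cons 64 m2_12 (.cons 32 m2_11 (.cons 16 m2_10 (.cons 8 m2_9 (.cons 4 m2_8 (.cons 2 m2_7 (.cons 1 m2_6 (.cons 2 m2_5 (.cons 4 m2_4 (.cons 8 m2_3 (.cons 16 m2_2 (.cons 32 m2_1 (.cons 64 m2_0 .nil)))))))))))))

theorem ok3 : Net.ok 128 net3 = true :=
  by decide +kernel

noncomputable def m4_0 : ℕ := nat_lit 0xbb2b40be976e1de9

noncomputable def m4_1 : ℕ := nat_lit 0x104421ef000000002672c528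

noncomputable def m4_2 : ℕ := nat_lit 0xf1aa0000ef140000b36200007214

noncomputable def m4_3 : ℕ := nat_lit 0xa20051001e005300d2002600da0011

noncomputable def m4_4 : ℕ := nat_lit 0x2060f0b0a05040701080a020d01080d

noncomputable def m4_5 : ℕ := nat_lit 0x22230123203002003300220101031122

noncomputable def m4_6 : ℕ := nat_lit 0x40410514141141141404440410050410

noncomputable def m4_7 : ℕ := nat_lit 0x220002000022200202020220000020

noncomputable def m4_8 : ℕ := nat_lit 0x20e080e040404020c080608000808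

noncomputable def m4_9 : ℕ := nat_lit 0xa000600098006800e2004a00420004

noncomputable def m4_10 : ℕ := nat_lit 0xd0c2000079040000b5240000f344

noncomputable def m4_11 : ℕ := nat_lit 0x104561600000000022b6702a

noncomputable def m4_12 : ℕ := nat_lit 0xbb2b40bacece0168

noncomputable def net4 : Net := (.cons 64 m4_0 (.cons 32 m4_1 (.cons 16 m4_2 (.cons 8 m4_3 (.cons 4 m4_4 (.cons 2 m4_5 (.cons 1 m4_6 (.cons 2 m4_7 (.cons 4 m4_8 (.cons 8 m4_9 (.cons 16 m4_10 (.cons 32 m4_11 (.cons 64 m4_12 .nil)))))))))))))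

theorem ok4 : Net.ok 128 net4 = true :=
  by decide +kernel

noncomputable def net5 : Net := (.cons 64 m4_12 (.cons 32 m4_11 (.cons 16 m4_10 (.cons 8 m4_9 (.cons 4 m4_8 (.cons 2 m4_7 (.cons 1 m4_6 (.cons 2 m4_5 (.cons 4 m4_4 (.cons 8 m4_3 (.cons 16 m4_2 (.cons 32 m4_1 (.cons 64 m4_0 .nil)))))))))))))

theorem ok5 : Net.ok 128 net5 = true :=
  by decide +kernel

noncomputable def m6_0 : ℕ := nat_lit 0x863ebc3aca0100

noncomputable def m6_1 : ℕ := nat_lit 0x5eb1b3800000000086058480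

noncomputable def m6_2 : ℕ := nat_lit 0x8c13000060a8000094080000a290

noncomputable def m6_3 : ℕ := nat_lit 0x80008800e4006000c000d6000800b0

noncomputable def m6_4 : ℕ := nat_lit 0xe040e00000404090005080d0f090200

noncomputable def m6_5 : ℕ := nat_lit 0x30302000010202020231001311002021

noncomputable def m6_6 : ℕ := nat_lit 0x4504114400404110414054114401000

noncomputable def m6_7 : ℕ := nat_lit 0x2000000202200220000222002000

noncomputable def m6_8 : ℕ := nat_lit 0xe040600000404020008080000080000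

noncomputable def m6_9 : ℕ := nat_lit 0x80008800c4006000c000d6000800b0

noncomputable def m6_10 : ℕ := nat_lit 0x8c10000060a8000094080000a290

noncomputable def m6_11 : ℕ := nat_lit 0x5eb1a3800000000086058480

noncomputable def m6_12 : ℕ := nat_lit 0x863ebc3aca0100

noncomputable def net6 : Net := (.cons 64 m6_0 (.cons 32 m6_1 (.cons 16 m6_2 (.cons 8 m6_3 (.cons 4 m6_4 (.cons 2 m6_5 (.cons 1 m6_6 (.cons 2 m6_7 (.cons 4 m6_8 (.cons 8 m6_9 (.cons 16 m6_10 (.cons 32 m6_11 (.cons 64 m6_12 .nil)))))))))))))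

theorem ok6 : Net.ok 128 net6 = true :=
  by decide +kernel

noncomputable def m7_0 : ℕ := nat_lit 0x1d2274240dbe5042

noncomputable def m7_1 : ℕ := nat_lit 0xcb4515a3000000001bfb7e92

noncomputable def m7_2 : ℕ := nat_lit 0x586e0000159c00003a960000c0e0

noncomputable def m7_3 : ℕ := nat_lit 0xcd001a002000a900f8000600ec00d8

noncomputable def m7_4 : ℕ := nat_lit 0xf04000504020e020a0c050d06010000

noncomputable def m7_5 : ℕ := nat_lit 0x10000133100031001012201022202001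

noncomputable def m7_6 : ℕ := nat_lit 0x50410141101441101041050404101144

noncomputable def m7_7 : ℕ := nat_lit 0x2000022202022000202002002

noncomputable def m7_8 : ℕ := nat_lit 0xe02060004000c0800000a0008000008

noncomputable def m7_9 : ℕ := nat_lit 0xcc007e003800280040008c004800d0

noncomputable def m7_10 : ℕ := nat_lit 0x5d6a000019a40000230e0000c2f8

noncomputable def m7_11 : ℕ := nat_lit 0xdb65118e0000000019e6f54c

noncomputable def m7_12 : ℕ := nat_lit 0x1d22742e33b7c770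

noncomputable def net7 : Net := (.cons 64 m7_0 (.cons 32 m7_1 (.cons 16 m7_2 (.cons 8 m7_3 (.cons 4 m7_4 (.cons 2 m7_5 (.cons 1 m7_6 (.cons 2 m7_7 (.cons 4 m7_8 (.cons 8 m7_9 (.cons 16 m7_10 (.cons 32 m7_11 (.cons 64 m7_12 .nil)))))))))))))

theorem ok7 : Net.ok 128 net7 = true :=
  by decide +kernel

noncomputable def net8 : Net := (.cons 64 m7_12 (.cons 32 m7_11 (.cons 16 m7_10 (.cons 8 m7_9 (.cons 4 m7_8 (.cons 2 m7_7 (.cons 1 m7_6 (.cons 2 m7_5 (.cons 4 m7_4 (.cons 8 m7_3 (.cons 16 m7_2 (.cons 32 m7_1 (.cons 64 m7_0 .nil)))))))))))))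

theorem ok8 : Net.ok 128 net8 = true :=
  by decide +kernel

noncomputable def m9_0 : ℕ := nat_lit 0x481f42f9415a408

noncomputable def m9_1 : ℕ := nat_lit 0x9088d400000000007f612580

noncomputable def m9_2 : ℕ := nat_lit 0xb406000026c0000027410000c8a0

noncomputable def m9_3 : ℕ := nat_lit 0x8800d00064006c00d4000a00920098

noncomputable def m9_4 : ℕ := nat_lit 0x808000900040c080e0e0008030a0106

noncomputable def m9_5 : ℕ := nat_lit 0x32220102233022001000200020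

noncomputable def m9_6 : ℕ := nat_lit 0x10050051445050455144050411104014

noncomputable def m9_7 : ℕ := nat_lit 0x2220000200022000000200020

noncomputable def m9_8 : ℕ := nat_lit 0x8000000040c080e00000800080004

noncomputable def m9_9 : ℕ := nat_lit 0x8800d00064006c00d4000a00120098

noncomputable def m9_10 : ℕ := nat_lit 0xb006000026c0000027400000c8a0

noncomputable def m9_11 : ℕ := nat_lit 0x9088d400000000007f612580

noncomputable def m9_12 : ℕ := nat_lit 0x481f42f9415a408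

noncomputable def net9 : Net := (.cons 64 m9_0 (.cons 32 m9_1 (.cons 16 m9_2 (.cons 8 m9_3 (.cons 4 m9_4 (.cons 2 m9_5 (.cons 1 m9_6 (.cons 2 m9_7 (.cons 4 m9_8 (.cons 8 m9_9 (.cons 16 m9_10 (.cons 32 m9_11 (.cons 64 m9_12 .nil)))))))))))))

theorem ok9 : Net.ok 128 net9 = true :=
  by decide +kernel

noncomputable def m10_0 : ℕ := nat_lit 0x3e0a0308e3082808

noncomputable def m10_1 : ℕ := nat_lit 0x29295200000000008e860120

noncomputable def m10_2 : ℕ := nat_lit 0x140100006eac0000c70000002440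

noncomputable def m10_3 : ℕ := nat_lit 0x80018009000f4009400bb00c80044

noncomputable def m10_4 : ℕ := nat_lit 0x2020c0204000a000c080d0104040008

noncomputable def m10_5 : ℕ := nat_lit 0x2000100302000232103022010011200

noncomputable def m10_6 : ℕ := nat_lit 0x11004010500410051005411004100450

noncomputable def m10_7 : ℕ := nat_lit 0x2000000000000002000022000000200

noncomputable def m10_8 : ℕ := nat_lit 0x2000c02040002000c080c0004040008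

noncomputable def m10_9 : ℕ := nat_lit 0x80018009000b40094000800480044

noncomputable def m10_10 : ℕ := nat_lit 0x140000006eac0000c70000000440

noncomputable def m10_11 : ℕ := nat_lit 0x29295000000000008e820120

noncomputable def m10_12 : ℕ := nat_lit 0x3e0a0308e3082008

noncomputable def net10 : Net := (.cons 64 m10_0 (.cons 32 m10_1 (.cons 16 m10_2 (.cons 8 m10_3 (.cons 4 m10_4 (.cons 2 m10_5 (.cons 1 m10_6 (.cons 2 m10_7 (.cons 4 m10_8 (.cons 8 m10_9 (.cons 16 m10_10 (.cons 32 m10_11 (.cons 64 m10_12 .nil)))))))))))))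

theorem ok10 : Net.ok 128 net10 = true :=
  by decide +kernel

noncomputable def m11_0 : ℕ := nat_lit 0x1c011216d12a4100

noncomputable def m11_1 : ℕ := nat_lit 0xe5030100000000051204080

noncomputable def m11_2 : ℕ := nat_lit 0x3414000015800000ad2000006b21

noncomputable def m11_3 : ℕ := nat_lit 0x4200080008008a002800c400260004

noncomputable def m11_4 : ℕ := nat_lit 0x8040802050a0402030e080a000a0f04

noncomputable def m11_5 : ℕ := nat_lit 0x102200202210301132000220222210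

noncomputable def m11_6 : ℕ := nat_lit 0x50011410040005514150044141000000

noncomputable def m11_7 : ℕ := nat_lit 0x2200000000002200000220000000

noncomputable def m11_8 : ℕ := nat_lit 0x8040802040004020c0e080800000004

noncomputable def m11_9 : ℕ := nat_lit 0x4200080008008a002800c400220004

noncomputable def m11_10 : ℕ := nat_lit 0x3414000015800000ad2000006b20

noncomputable def m11_11 : ℕ := nat_lit 0xe5030100000000051204080

noncomputable def m11_12 : ℕ := nat_lit 0x1c011216d12a4100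

noncomputable def net11 : Net := (.cons 64 m11_0 (.cons 32 m11_1 (.cons 16 m11_2 (.cons 8 m11_3 (.cons 4 m11_4 (.cons 2 m11_5 (.cons 1 m11_6 (.cons 2 m11_7 (.cons 4 m11_8 (.cons 8 m11_9 (.cons 16 m11_10 (.cons 32 m11_11 (.cons 64 m11_12 .nil)))))))))))))

theorem ok11 : Net.ok 128 net11 = true :=
  by decide +kernel

noncomputable def m12_0 : ℕ := nat_lit 0x469b863dbf9ca810

noncomputable def m12_1 : ℕ := nat_lit 0x3523b33600000000c6e8ff95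

noncomputable def m12_2 : ℕ := nat_lit 0x65210000c0170000b64a0000e1ef

noncomputable def m12_3 : ℕ := nat_lit 0x8300f0001e009200e400510022009c

noncomputable def m12_4 : ℕ := nat_lit 0x10900040008080c01000d0c0a000002

noncomputable def m12_5 : ℕ := nat_lit 0x200300220310020222301010300102

noncomputable def m12_6 : ℕ := nat_lit 0x11100450144404411104450441540011

noncomputable def m12_7 : ℕ := nat_lit 0x20000200200200200202200000000022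

noncomputable def m12_8 : ℕ := nat_lit 0xa02080c08080200040c0008080000

noncomputable def m12_9 : ℕ := nat_lit 0xb000f000da005000e000c0006200bc

noncomputable def m12_10 : ℕ := nat_lit 0x753000008454000070820000d98c

noncomputable def m12_11 : ℕ := nat_lit 0x3733372800000000e6a8fe58

noncomputable def m12_12 : ℕ := nat_lit 0x469b863405c5c43c

noncomputable def net12 : Net := (.cons 64 m12_0 (.cons 32 m12_1 (.cons 16 m12_2 (.cons 8 m12_3 (.cons 4 m12_4 (.cons 2 m12_5 (.cons 1 m12_6 (.cons 2 m12_7 (.cons 4 m12_8 (.cons 8 m12_9 (.cons 16 m12_10 (.cons 32 m12_11 (.cons 64 m12_12 .nil)))))))))))))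

theorem ok12 : Net.ok 128 net12 = true :=
  by decide +kernel

noncomputable def net13 : Net := (.cons 64 m12_12 (.cons 32 m12_11 (.cons 16 m12_10 (.cons 8 m12_9 (.cons 4 m12_8 (.cons 2 m12_7 (.cons 1 m12_6 (.cons 2 m12_5 (.cons 4 m12_4 (.cons 8 m12_3 (.cons 16 m12_2 (.cons 32 m12_1 (.cons 64 m12_0 .nil)))))))))))))

theorem ok13 : Net.ok 128 net13 = true :=
  by decide +kernel

noncomputable def m14_0 : ℕ := nat_lit 0x680b871253a80400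

noncomputable def m14_1 : ℕ := nat_lit 0xdc0980000000000027f28032

noncomputable def m14_2 : ℕ := nat_lit 0x10080000c680000048400000b6c4

noncomputable def m14_3 : ℕ := nat_lit 0x8c0038006200fa00c0004a0096

noncomputable def m14_4 : ℕ := nat_lit 0x400010005080403040c000a0d0e080d

noncomputable def m14_5 : ℕ := nat_lit 0x20020222202202003030002020310322

noncomputable def m14_6 : ℕ := nat_lit 0x14110114515004501500500540

noncomputable def m14_7 : ℕ := nat_lit 0x22020202000000002000000020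

noncomputable def m14_8 : ℕ := nat_lit 0xa080400040c000a080e080c

noncomputable def m14_9 : ℕ := nat_lit 0x8c0010006200f800c0004a0096

noncomputable def m14_10 : ℕ := nat_lit 0x10080000c680000048400000b6c4

noncomputable def m14_11 : ℕ := nat_lit 0xdc0980000000000027f28032

noncomputable def m14_12 : ℕ := nat_lit 0x680b871253a80400

noncomputable def net14 : Net := (.cons 64 m14_0 (.cons 32 m14_1 (.cons 16 m14_2 (.cons 8 m14_3 (.cons 4 m14_4 (.cons 2 m14_5 (.cons 1 m14_6 (.cons 2 m14_7 (.cons 4 m14_8 (.cons 8 m14_9 (.cons 16 m14_10 (.cons 32 m14_11 (.cons 64 m14_12 .nil)))))))))))))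

theorem ok14 : Net.ok 128 net14 = true :=
  by decide +kernel

noncomputable def m15_0 : ℕ := nat_lit 0x22343203488ac280

noncomputable def m15_1 : ℕ := nat_lit 0x24307000000000006ac79400

noncomputable def m15_2 : ℕ := nat_lit 0x1038000001a80000f788000043b0

noncomputable def m15_3 : ℕ := nat_lit 0x280040005200e000d80094006900ac

noncomputable def m15_4 : ℕ := nat_lit 0x40402070e080a02000409080c080c04

noncomputable def m15_5 : ℕ := nat_lit 0x12200000232032220022222220120202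

noncomputable def m15_6 : ℕ := nat_lit 0x400011104000114410041041010140

noncomputable def m15_7 : ℕ := nat_lit 0x200000202000220020022022000200

noncomputable def m15_8 : ℕ := nat_lit 0x40400000e000000000008080c080804

noncomputable def m15_9 : ℕ := nat_lit 0x280040005000e000d8009400e2008c

noncomputable def m15_10 : ℕ := nat_lit 0x1038000001a80000f788000043b0

noncomputable def m15_11 : ℕ := nat_lit 0x24307000000000006ac79400

noncomputable def m15_12 : ℕ := nat_lit 0x22343203488ac280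

noncomputable def net15 : Net := (.cons 64 m15_0 (.cons 32 m15_1 (.cons 16 m15_2 (.cons 8 m15_3 (.cons 4 m15_4 (.cons 2 m15_5 (.cons 1 m15_6 (.cons 2 m15_7 (.cons 4 m15_8 (.cons 8 m15_9 (.cons 16 m15_10 (.cons 32 m15_11 (.cons 64 m15_12 .nil)))))))))))))

theorem ok15 : Net.ok 128 net15 = true :=
  by decide +kernel

noncomputable def m16_0 : ℕ := nat_lit 0x3895111951060120

noncomputable def m16_1 : ℕ := nat_lit 0x3a11c028000000002048d430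

noncomputable def m16_2 : ℕ := nat_lit 0x500c000045110000a6040000c404

noncomputable def m16_3 : ℕ := nat_lit 0xa000a100b200d400c800c0000a008c

noncomputable def m16_4 : ℕ := nat_lit 0x8000000080400080408060c0c000200

noncomputable def m16_5 : ℕ := nat_lit 0x12020022003020222300320300032120

noncomputable def m16_6 : ℕ := nat_lit 0x111014010005144004501001104000

noncomputable def m16_7 : ℕ := nat_lit 0x20022000000222000000000002000

noncomputable def m16_8 : ℕ := nat_lit 0x8000000000400080408060c00000200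

noncomputable def m16_9 : ℕ := nat_lit 0xa000a000b2009400c800c0000a0084

noncomputable def m16_10 : ℕ := nat_lit 0x500c000045000000a6040000c404

noncomputable def m16_11 : ℕ := nat_lit 0x3a11c028000000002048d430

noncomputable def m16_12 : ℕ := nat_lit 0x3895111951060120

noncomputable def net16 : Net := (.cons 64 m16_0 (.cons 32 m16_1 (.cons 16 m16_2 (.cons 8 m16_3 (.cons 4 m16_4 (.cons 2 m16_5 (.cons 1 m16_6 (.cons 2 m16_7 (.cons 4 m16_8 (.cons 8 m16_9 (.cons 16 m16_10 (.cons 32 m16_11 (.cons 64 m16_12 .nil)))))))))))))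

theorem ok16 : Net.ok 128 net16 = true :=
  by decide +kernel

noncomputable def m17_0 : ℕ := nat_lit 0x1cc8b3914509001e

noncomputable def m17_1 : ℕ := nat_lit 0x4c50aea0000000003895f8c0

noncomputable def m17_2 : ℕ := nat_lit 0x2b00000c37d0000bfa900006b2a

noncomputable def m17_3 : ℕ := nat_lit 0x50000a00d30021000800c600340061

noncomputable def m17_4 : ℕ := nat_lit 0x808000c0d07030e0c0808080e04040f

noncomputable def m17_5 : ℕ := nat_lit 0x2300302013020203002302220032131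

noncomputable def m17_6 : ℕ := nat_lit 0x44001041554401010414054015004010

noncomputable def m17_7 : ℕ := nat_lit 0x2000002002000000002002020002020

noncomputable def m17_8 : ℕ := nat_lit 0x808000c0002020a0c0008080e040408

noncomputable def m17_9 : ℕ := nat_lit 0x50000a00880000000800c600300020

noncomputable def m17_10 : ℕ := nat_lit 0x2a00000f3740000bfa800006922

noncomputable def m17_11 : ℕ := nat_lit 0x4c502e20000000003895f8c0

noncomputable def m17_12 : ℕ := nat_lit 0x1cc8b39145010000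

noncomputable def net17 : Net := (.cons 64 m17_0 (.cons 32 m17_1 (.cons 16 m17_2 (.cons 8 m17_3 (.cons 4 m17_4 (.cons 2 m17_5 (.cons 1 m17_6 (.cons 2 m17_7 (.cons 4 m17_8 (.cons 8 m17_9 (.cons 16 m17_10 (.cons 32 m17_11 (.cons 64 m17_12 .nil)))))))))))))

theorem ok17 : Net.ok 128 net17 = true :=
  by decide +kernel

noncomputable def m18_0 : ℕ := nat_lit 0x80aa5056a4088000

noncomputable def m18_1 : ℕ := nat_lit 0x847790100000000093424008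

noncomputable def m18_2 : ℕ := nat_lit 0x80150000ae00000003d000000382

noncomputable def m18_3 : ℕ := nat_lit 0xa8000800b800980084006a009000a9

noncomputable def m18_4 : ℕ := nat_lit 0x40406020a080c080800060c0c0600

noncomputable def m18_5 : ℕ := nat_lit 0x20022000022030030300201021301222

noncomputable def m18_6 : ℕ := nat_lit 0x4441410441000101505410540010111

noncomputable def m18_7 : ℕ := nat_lit 0x22000202000000000200020000222

noncomputable def m18_8 : ℕ := nat_lit 0x404020c08080c08080006040c0400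

noncomputable def m18_9 : ℕ := nat_lit 0xa8000800b800980084006a009000a0

noncomputable def m18_10 : ℕ := nat_lit 0x80140000ae00000003d000000382

noncomputable def m18_11 : ℕ := nat_lit 0x847790100000000093424008

noncomputable def m18_12 : ℕ := nat_lit 0x80aa5056a4088000

noncomputable def net18 : Net := (.cons 64 m18_0 (.cons 32 m18_1 (.cons 16 m18_2 (.cons 8 m18_3 (.cons 4 m18_4 (.cons 2 m18_5 (.cons 1 m18_6 (.cons 2 m18_7 (.cons 4 m18_8 (.cons 8 m18_9 (.cons 16 m18_10 (.cons 32 m18_11 (.cons 64 m18_12 .nil)))))))))))))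

theorem ok18 : Net.ok 128 net18 = true :=
  by decide +kernel

noncomputable def m19_0 : ℕ := nat_lit 0x53ad0a2750976c02

noncomputable def m19_1 : ℕ := nat_lit 0x94b9a610000000002213da92

noncomputable def m19_2 : ℕ := nat_lit 0x4b20000029e00000dc51000071a8

noncomputable def m19_3 : ℕ := nat_lit 0x2400920082000c00880000008200fc

noncomputable def m19_4 : ℕ := nat_lit 0x8090108020c080c060000080b000200

noncomputable def m19_5 : ℕ := nat_lit 0x2220322001230022232031301331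

noncomputable def m19_6 : ℕ := nat_lit 0x10004405010150051010001441044510

noncomputable def m19_7 : ℕ := nat_lit 0x2200020000000020002020000020

noncomputable def m19_8 : ℕ := nat_lit 0x80208080c0200000804000200

noncomputable def m19_9 : ℕ := nat_lit 0x2000920082000c008800000082002c

noncomputable def m19_10 : ℕ := nat_lit 0x4b20000029e00000dc10000071a8

noncomputable def m19_11 : ℕ := nat_lit 0x94b9a4100000000002135a80

noncomputable def m19_12 : ℕ := nat_lit 0x53ad0a2750976c02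

noncomputable def net19 : Net := (.cons 64 m19_0 (.cons 32 m19_1 (.cons 16 m19_2 (.cons 8 m19_3 (.cons 4 m19_4 (.cons 2 m19_5 (.cons 1 m19_6 (.cons 2 m19_7 (.cons 4 m19_8 (.cons 8 m19_9 (.cons 16 m19_10 (.cons 32 m19_11 (.cons 64 m19_12 .nil)))))))))))))

theorem ok19 : Net.ok 128 net19 = true :=
  by decide +kernel

noncomputable def nets : List Net := [net0, net1, net2, net3, net4, net5, net6, net7, net8, net9, net10, net11, net12, net13, net14, net15, net16, net17, net18, net19]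

noncomputable def act : Act := netAct' nets
noncomputable def π : ℕ → Equiv.Perm ℕ := netPerm nets

theorem spec : act.Spec 128 π :=
  spec_fast (netAct_spec (AllP.forall (p := fun t => Net.ok 128 t = true) ⟨ok0, ok1, ok2, ok3, ok4, ok5, ok6, ok7, ok8, ok9, ok10, ok11, ok12, ok13, ok14, ok15, ok16, ok17, ok18, ok19, trivial⟩))

theorem out : ∀ k, 20 ≤ k → π k = 1 :=
  netPerm_out nets

theorem sat_inv_0 : invC Cfsg.Agent.HSR.Mo.act Cfsg.Agent.HSR.P.I 128 7 Cfsg.Agent.HSR.P.inv.length [0, 1, 2, 3, 4, 5, 6] = true :=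
  by decide +kernel

theorem sat_inv : ∀ k, Cfsg.Agent.HSR.Mo.π (Cfsg.Agent.HSR.P.I k) * Cfsg.Agent.HSR.Mo.π k = 1 :=
  inv_of_checks Cfsg.Agent.HSR.Mo.spec (K := 7) (by decide) Cfsg.Agent.HSR.Mo.out [[0, 1, 2, 3, 4, 5, 6]] (by decide) ⟨sat_inv_0, trivial⟩

theorem sat_rel_0_0 : relsC Cfsg.Agent.HSR.Mo.act Cfsg.Agent.HSR.P.I 128 7 [[0, 0, 0, 0], [2, 2, 2, 2], [4, 4, 4, 4], [0, 2, 1, 3], [0, 4, 1, 5], [2, 4, 3, 5], [7, 0, 8, 3], [7, 2, 8, 5], [7, 4, 8, 5, 3, 3, 1], [6, 0, 6, 3], [6, 4, 6, 4], [7, 7, 7, 7, 7, 7, 7], [6, 7, 6, 7, 6, 7], [7, 6, 8, 6, 7, 6, 8, 6, 7, 6, 8, 6, 7, 6, 8, 6], [2, 2, 10], [4, 4, 9], [12, 12, 14], [0, 0, 10, 14], [0, 0, 14, 10], [0, 2, 9, 13], [0, 2, 13, 9], [0, 9, 1, 9], [0, 9, 2, 13], [0, 9, 13, 2], [0, 10, 0, 14], [0, 10, 1, 10], [0, 11, 2, 11], [0, 12, 1, 13], [0, 13, 2, 9], [0, 13, 9, 2], [0, 14, 1, 14], [0, 16, 0, 16], [0, 17, 4, 17], [0,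 18, 0, 18], [2, 12, 3, 13], [2, 14, 3, 14], [2, 15, 5, 15], [2, 16, 3, 16], [4, 10, 5, 10], [4, 12, 5, 13], [4, 14, 5, 14], [4, 18, 4, 18], [6, 8, 15, 7], [6, 9, 6, 9], [6, 11, 6, 11], [6, 12, 6, 13], [6, 14, 6, 14], [6, 16, 11, 16], [7, 10, 8, 9], [9, 10, 9, 10], [9, 12, 9, 13], [9, 14, 9, 14], [9, 15, 10, 15], [9, 18, 9, 18], [10, 12, 10, 13], [10, 14, 10, 14], [10, 16, 10, 16], [11, 12, 11, 13], [11, 14, 11, 14], [11, 15, 11, 15], [11, 18, 15, 18], [12, 15, 12, 15], [12, 16, 12, 16], [12, 17, 12, 17], [14, 15, 14, 15], [14, 16, 14, 16], [14, 17, 14, 17], [15, 17, 15, 17], [0, 0, 2, 2, 14], [0, 2, 4, 4, 13], [6, 15, 16, 8, 18], [7, 14, 8, 9, 10], [9, 10, 18, 14, 18], [9, 14, 18, 10, 18], [0, 0, 9, 7, 9, 8], [0, 4, 10, 7, 5, 8], [0, 4, 12, 7, 13, 8], [0, 4, 12, 18, 13, 18], [0, 4, 17, 18, 17, 18], [0, 7, 18, 12, 18, 8], [0, 15, 8, 13, 7, 15], [0, 16, 18, 1, 18, 16],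 [0, 18, 2, 18, 5, 3], [0, 18, 6, 2, 6, 18], [0, 18, 8, 2, 7, 18], [2, 18, 8, 13, 7, 18], [4, 6, 18, 5, 18, 6], [4, 7, 15, 5, 15, 8], [4, 16, 18, 13, 18, 16], [6, 7, 7, 18, 8, 8], [6, 9, 6, 18, 9, 18], [6, 11, 6, 18, 15, 18], [6, 16, 8, 11, 15, 18], [6, 16, 8, 15, 11, 18], [6, 16, 18, 15, 18, 16], [6, 18, 6, 18, 6, 18], [7, 11, 16, 18, 11, 15], [7, 11, 16, 18, 15, 11], [7, 15, 8, 11, 7, 18], [7, 15, 9, 15, 8, 9], [7, 18, 10, 18, 8, 14], [9, 16, 18, 14, 18, 16], [16, 18, 16, 18, 16, 18], [0, 0, 7, 18, 14, 18, 8], [0, 0, 18, 6, 10, 6, 18], [4, 8, 6, 17, 6, 7, 6], [6, 7, 16, 18, 11, 6, 18], [6, 7, 18, 16, 18, 8, 11], [6, 14, 6, 18, 9, 10, 18], [6, 15, 6, 18, 11, 15, 18], [7, 15, 14, 15, 8, 9, 10], [7, 15, 16, 15, 8, 11, 15], [9, 10, 18, 16, 14, 16, 18], [9, 14, 18, 16, 10, 16, 18], [0, 0, 9, 7, 15, 10, 15, 8], [0, 0, 9, 7, 18, 9, 18, 8], [0, 4, 10, 7, 15, 3, 15, 8], [0,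 4, 12, 18, 6, 13, 6, 18], [0, 5, 14, 7, 18, 5, 18, 8], [0, 6, 18, 5, 3, 0, 18, 6], [0, 7, 15, 12, 15, 8, 12, 4], [0, 7, 18, 17, 8, 17, 16, 17], [0, 11, 15, 18, 16, 17, 15, 8], [0, 18, 16, 2, 16, 18, 5, 3], [0, 18, 16, 12, 16, 18, 12, 4], [2, 17, 9, 7, 15, 17, 16, 18], [4, 16, 17, 7, 18, 15, 16, 18], [6, 7, 18, 6, 15, 8, 16, 15], [6, 8, 8, 8, 16, 7, 7, 7], [6, 8, 8, 11, 15, 16, 15, 18], [7, 15, 7, 18, 15, 16, 15, 11], [7, 17, 18, 8, 17, 16, 15, 11], [7, 18, 8, 16, 15, 11, 18, 16], [7, 18, 15, 16, 18, 16, 15, 11], [0, 4, 11, 9, 18, 6, 17, 6, 18], [4, 16, 17, 16, 7, 15, 11, 18, 8], [4, 16, 17, 16, 7, 15, 18, 15, 8], [4, 16, 17, 16, 7, 18, 11, 15, 8], [6, 7, 6, 8, 6, 7, 6, 8, 11], [6, 19, 9, 19], [12, 19, 12, 19], [14, 19, 14, 19], [15, 19, 15, 19], [16, 19, 16, 19], [6, 11, 19, 10, 19], [9, 10, 19, 11, 19], [12, 17, 19, 13, 19, 17], [14, 17, 19, 14, 19, 17], [15, 17,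 19, 15, 19, 17], [17, 19, 17, 19, 17, 19], [6, 14, 19, 17, 10, 17, 19], [6, 10, 13, 19, 17, 6, 17, 19], [6, 11, 14, 19, 17, 9, 17, 19], [9, 10, 11, 19, 17, 11, 17, 19], [9, 16, 17, 19, 11, 19, 17, 16], [12, 16, 17, 19, 12, 19, 17, 16], [14, 16, 17, 19, 14, 19, 17, 16], [16, 17, 19, 17, 19, 17, 16, 19], [6, 14, 19, 17, 16, 10, 16, 17, 19], [12, 16, 19, 17, 16, 17, 16, 17, 19], [6, 10, 13, 19, 17, 16, 11, 16, 17, 19], [6, 16, 17, 19, 9, 10, 11, 19, 17, 16], [10, 15, 16, 17, 19, 11, 19, 17, 16, 15], [12, 15, 16, 17, 19, 13, 19, 17, 16, 15], [14, 15, 16, 17, 19, 14, 19, 17, 16, 15], [15, 16, 15, 16, 17, 19, 15, 19, 17, 16], [15, 16, 17, 19, 17, 19, 17, 16, 15, 19], [6, 14, 19, 17, 16, 15, 9, 15, 16, 17, 19], [12, 16, 19, 17, 16, 15, 17, 15, 16, 17, 19], [6, 10, 13, 19, 17, 16, 15, 11, 15, 16, 17, 19], [6, 9, 11, 13, 19, 17, 16, 15, 6, 15, 16, 17, 19], [6, 19, 18, 9, 18,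 19], [11, 18, 19, 15, 19, 18], [11, 19, 18, 14, 18, 19], [6, 14, 19, 18, 10, 18, 19], [9, 10, 19, 18, 15, 18, 19], [11, 19, 18, 12, 12, 18, 19], [6, 9, 6, 18, 19, 6, 19, 18], [6, 11, 6, 18, 19, 15, 19, 18], [6, 14, 6, 18, 19, 11, 19, 18], [6, 18, 6, 18, 19, 9, 19, 18], [6, 19, 18, 12, 9, 13, 18, 19], [6, 19, 18, 19, 6, 19, 18, 19], [11, 13, 18, 19, 15, 19, 18, 12], [11, 19, 18, 12, 14, 13, 18, 19], [11, 19, 18, 19, 14, 19, 18, 19], [6, 12, 12, 6, 18, 19, 11, 19, 18], [6, 14, 19, 18, 12, 10, 13, 18, 19], [9, 10, 12, 15, 19, 18, 17, 18, 19], [9, 10, 15, 19, 17, 18, 13, 18, 19], [9, 10, 15, 19, 18, 12, 18, 17, 19], [9, 10, 19, 18, 19, 15, 19, 18, 19], [11, 19, 18, 12, 19, 13, 19, 18, 19], [11, 19, 18, 19, 12, 12, 19, 18, 19], [6, 9, 19, 18, 19, 6, 19, 18, 19, 9], [6, 10, 6, 18, 19, 6, 11, 14, 19, 18], [6, 12, 9, 13, 6, 18, 19, 6, 19, 18], [6, 12, 11, 13, 6, 18, 19, 15,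 19, 18], [6, 12, 14, 13, 6, 18, 19, 11, 19, 18], [6, 13, 19, 18, 19, 6, 19, 18, 19, 12], [6, 15, 6, 18, 19, 9, 10, 15, 19, 18], [9, 10, 11, 19, 18, 12, 15, 13, 18, 19], [9, 14, 9, 19, 18, 19, 11, 19, 18, 19], [11, 13, 19, 18, 19, 14, 19, 18, 19, 12], [11, 19, 18, 19, 12, 14, 13, 19, 18, 19], [11, 19, 18, 19, 17, 14, 17, 19, 18, 19], [6, 12, 19, 13, 9, 19, 18, 19, 11, 19, 18], [9, 10, 19, 18, 19, 17, 15, 17, 19, 18, 19], [9, 11, 9, 19, 18, 19, 11, 14, 19, 18, 19], [9, 12, 10, 13, 19, 18, 19, 15, 19, 18, 19], [9, 12, 12, 9, 19, 18, 19, 11, 19, 18, 19], [9, 17, 10, 17, 19, 18, 19, 11, 19, 18, 19], [11, 17, 19, 18, 19, 14, 15, 19, 18, 19, 17], [11, 19, 18, 19, 12, 17, 13, 17, 19, 18, 19], [12, 19, 18, 19, 18, 19, 18, 19, 17, 14, 18], [6, 11, 14, 19, 18, 6, 12, 10, 13, 6, 18, 19], [6, 12, 17, 6, 18, 19, 10, 17, 6, 17, 19, 18], [6, 12, 17, 6, 18, 19, 17, 6, 17, 10, 19, 18],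 [6, 12, 18, 13, 6, 18, 19, 17, 6, 17, 19, 18], [6, 13, 9, 19, 18, 19, 6, 19, 18, 19, 9, 12], [6, 14, 6, 17, 19, 18, 19, 11, 19, 18, 19, 17], [9, 10, 11, 12, 15, 19, 18, 12, 17, 13, 18, 19], [9, 10, 11, 19, 18, 19, 12, 15, 13, 19, 18, 19], [9, 10, 15, 19, 18, 19, 9, 15, 9, 19, 18, 19], [9, 12, 14, 13, 9, 19, 18, 19, 11, 19, 18, 19], [9, 12, 18, 17, 9, 19, 18, 19, 18, 19, 18, 19], [9, 17, 9, 17, 19, 18, 19, 11, 15, 19, 18, 19], [9, 17, 9, 17, 19, 18, 19, 15, 11, 19, 18, 19], [9, 17, 14, 17, 9, 19, 18, 19, 11, 19, 18, 19], [11, 15, 18, 19, 18, 19, 12, 18, 17, 19, 18, 19], [11, 15, 18, 19, 18, 19, 17, 18, 13, 19, 18, 19], [11, 19, 18, 19, 12, 17, 14, 17, 13, 19, 18, 19], [6, 10, 17, 13, 19, 18, 19, 6, 14, 19, 18, 19, 17], [6, 10, 17, 13, 19, 18, 19, 14, 6, 19, 18, 19, 17], [6, 11, 6, 17, 19, 18, 19, 14, 15, 19, 18, 19, 17], [6, 12, 15, 13, 6, 18, 19, 9, 10, 11, 15, 19,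 18], [6, 13, 17, 9, 19, 18, 19, 6, 14, 19, 18, 19, 17], [6, 14, 19, 18, 19, 9, 17, 6, 17, 13, 19, 18, 19], [6, 14, 19, 18, 19, 12, 17, 6, 17, 9, 19, 18, 19], [9, 10, 12, 15, 19, 18, 19, 17, 19, 17, 19, 18, 19], [9, 12, 11, 13, 9, 19, 18, 19, 11, 14, 19, 18, 19], [9, 18, 9, 19, 18, 19, 13, 18, 14, 17, 19, 18, 19], [11, 17, 13, 19, 18, 19, 14, 15, 19, 18, 19, 12, 17], [6, 9, 17, 13, 19, 18, 19, 14, 15, 6, 19, 18, 19, 17], [6, 9, 17, 13, 19, 18, 19, 15, 14, 6, 19, 18, 19, 17], [6, 11, 14, 19, 18, 19, 9, 12, 17, 6, 17, 19, 18, 19], [6, 11, 14, 19, 18, 19, 9, 17, 13, 6, 17, 19, 18, 19], [6, 11, 14, 19, 18, 19, 17, 6, 17, 13, 9, 19, 18, 19], [9, 10, 11, 19, 18, 19, 12, 17, 15, 17, 13, 19, 18, 19], [9, 10, 15, 19, 18, 19, 9, 17, 15, 17, 9, 19, 18, 19], [9, 17, 11, 17, 9, 19, 18, 19, 11, 14, 15, 19, 18, 19], [10, 18, 10, 19, 18, 19, 12, 17, 18, 17, 13, 19, 18, 19], [6, 15,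 6, 17, 19, 18, 19, 9, 10, 14, 15, 19, 18, 19, 17], [6, 15, 19, 18, 19, 17, 6, 18, 6, 17, 19, 18, 19, 6, 18], [6, 17, 19, 18, 19, 9, 10, 11, 12, 19, 18, 19, 9, 17, 19], [6, 17, 19, 18, 19, 12, 11, 10, 9, 19, 18, 19, 9, 17, 19], [9, 10, 11, 15, 19, 18, 19, 9, 12, 15, 13, 9, 19, 18, 19], [9, 10, 11, 12, 15, 19, 18, 19, 12, 17, 19, 17, 13, 19, 18, 19]] [0, 1, 2, 3, 4, 5, 6] = true :=
  by decide +kernel

theorem sat_rel_0 : ∀ r ∈ ([[0, 0, 0, 0], [2, 2, 2, 2], [4, 4, 4, 4], [0, 2, 1, 3], [0, 4, 1, 5], [2, 4, 3, 5], [7, 0, 8, 3], [7, 2, 8, 5], [7, 4, 8, 5, 3, 3, 1], [6, 0, 6, 3], [6, 4, 6, 4], [7, 7, 7, 7, 7, 7, 7], [6, 7, 6, 7, 6, 7], [7, 6, 8, 6, 7, 6, 8, 6, 7, 6, 8, 6, 7, 6, 8, 6], [2, 2, 10], [4, 4, 9], [12, 12, 14], [0, 0, 10, 14], [0, 0, 14, 10], [0, 2, 9, 13], [0, 2, 13, 9], [0, 9, 1, 9], [0, 9, 2, 13], [0, 9, 13, 2], [0, 10, 0, 14], [0, 10, 1, 10], [0, 11, 2, 11],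 [0, 12, 1, 13], [0, 13, 2, 9], [0, 13, 9, 2], [0, 14, 1, 14], [0, 16, 0, 16], [0, 17, 4, 17], [0, 18, 0, 18], [2, 12, 3, 13], [2, 14, 3, 14], [2, 15, 5, 15], [2, 16, 3, 16], [4, 10, 5, 10], [4, 12, 5, 13], [4, 14, 5, 14], [4, 18, 4, 18], [6, 8, 15, 7], [6, 9, 6, 9], [6, 11, 6, 11], [6, 12, 6, 13], [6, 14, 6, 14], [6, 16, 11, 16], [7, 10, 8, 9], [9, 10, 9, 10], [9, 12, 9, 13], [9, 14, 9, 14], [9, 15, 10, 15], [9, 18, 9, 18], [10, 12, 10, 13], [10, 14, 10, 14], [10, 16, 10, 16], [11, 12, 11, 13], [11, 14, 11, 14], [11, 15, 11, 15], [11, 18, 15, 18], [12, 15, 12, 15], [12, 16, 12, 16], [12, 17, 12, 17], [14, 15, 14, 15], [14, 16, 14, 16], [14, 17, 14, 17], [15, 17, 15, 17], [0, 0, 2, 2, 14], [0, 2, 4, 4, 13], [6, 15, 16, 8, 18], [7, 14, 8, 9, 10], [9, 10, 18, 14, 18], [9, 14, 18, 10, 18], [0, 0, 9, 7, 9, 8], [0, 4, 10, 7, 5, 8], [0, 4, 12, 7, 13, 8], [0, 4, 12, 18, 13,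 18], [0, 4, 17, 18, 17, 18], [0, 7, 18, 12, 18, 8], [0, 15, 8, 13, 7, 15], [0, 16, 18, 1, 18, 16], [0, 18, 2, 18, 5, 3], [0, 18, 6, 2, 6, 18], [0, 18, 8, 2, 7, 18], [2, 18, 8, 13, 7, 18], [4, 6, 18, 5, 18, 6], [4, 7, 15, 5, 15, 8], [4, 16, 18, 13, 18, 16], [6, 7, 7, 18, 8, 8], [6, 9, 6, 18, 9, 18], [6, 11, 6, 18, 15, 18], [6, 16, 8, 11, 15, 18], [6, 16, 8, 15, 11, 18], [6, 16, 18, 15, 18, 16], [6, 18, 6, 18, 6, 18], [7, 11, 16, 18, 11, 15], [7, 11, 16, 18, 15, 11], [7, 15, 8, 11, 7, 18], [7, 15, 9, 15, 8, 9], [7, 18, 10, 18, 8, 14], [9, 16, 18, 14, 18, 16], [16, 18, 16, 18, 16, 18], [0, 0, 7, 18, 14, 18, 8], [0, 0, 18, 6, 10, 6, 18], [4, 8, 6, 17, 6, 7, 6], [6, 7, 16, 18, 11, 6, 18], [6, 7, 18, 16, 18, 8, 11], [6, 14, 6, 18, 9, 10, 18], [6, 15, 6, 18, 11, 15, 18], [7, 15, 14, 15, 8, 9, 10], [7, 15, 16, 15, 8, 11, 15], [9, 10, 18, 16, 14, 16, 18], [9, 14, 18, 16, 10,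 16, 18], [0, 0, 9, 7, 15, 10, 15, 8], [0, 0, 9, 7, 18, 9, 18, 8], [0, 4, 10, 7, 15, 3, 15, 8], [0, 4, 12, 18, 6, 13, 6, 18], [0, 5, 14, 7, 18, 5, 18, 8], [0, 6, 18, 5, 3, 0, 18, 6], [0, 7, 15, 12, 15, 8, 12, 4], [0, 7, 18, 17, 8, 17, 16, 17], [0, 11, 15, 18, 16, 17, 15, 8], [0, 18, 16, 2, 16, 18, 5, 3], [0, 18, 16, 12, 16, 18, 12, 4], [2, 17, 9, 7, 15, 17, 16, 18], [4, 16, 17, 7, 18, 15, 16, 18], [6, 7, 18, 6, 15, 8, 16, 15], [6, 8, 8, 8, 16, 7, 7, 7], [6, 8, 8, 11, 15, 16, 15, 18], [7, 15, 7, 18, 15, 16, 15, 11], [7, 17, 18, 8, 17, 16, 15, 11], [7, 18, 8, 16, 15, 11, 18, 16], [7, 18, 15, 16, 18, 16, 15, 11], [0, 4, 11, 9, 18, 6, 17, 6, 18], [4, 16, 17, 16, 7, 15, 11, 18, 8], [4, 16, 17, 16, 7, 15, 18, 15, 8], [4, 16, 17, 16, 7, 18, 11, 15, 8], [6, 7, 6, 8, 6, 7, 6, 8, 11], [6, 19, 9, 19], [12, 19, 12, 19], [14, 19, 14, 19], [15, 19, 15, 19], [16, 19, 16, 19], [6,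 11, 19, 10, 19], [9, 10, 19, 11, 19], [12, 17, 19, 13, 19, 17], [14, 17, 19, 14, 19, 17], [15, 17, 19, 15, 19, 17], [17, 19, 17, 19, 17, 19], [6, 14, 19, 17, 10, 17, 19], [6, 10, 13, 19, 17, 6, 17, 19], [6, 11, 14, 19, 17, 9, 17, 19], [9, 10, 11, 19, 17, 11, 17, 19], [9, 16, 17, 19, 11, 19, 17, 16], [12, 16, 17, 19, 12, 19, 17, 16], [14, 16, 17, 19, 14, 19, 17, 16], [16, 17, 19, 17, 19, 17, 16, 19], [6, 14, 19, 17, 16, 10, 16, 17, 19], [12, 16, 19, 17, 16, 17, 16, 17, 19], [6, 10, 13, 19, 17, 16, 11, 16, 17, 19], [6, 16, 17, 19, 9, 10, 11, 19, 17, 16], [10, 15, 16, 17, 19, 11, 19, 17, 16, 15], [12, 15, 16, 17, 19, 13, 19, 17, 16, 15], [14, 15, 16, 17, 19, 14, 19, 17, 16, 15], [15, 16, 15, 16, 17, 19, 15, 19, 17, 16], [15, 16, 17, 19, 17, 19, 17, 16, 15, 19], [6, 14, 19, 17, 16, 15, 9, 15, 16, 17, 19], [12, 16, 19, 17, 16, 15, 17, 15, 16, 17, 19], [6, 10, 13, 19, 17,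 16, 15, 11, 15, 16, 17, 19], [6, 9, 11, 13, 19, 17, 16, 15, 6, 15, 16, 17, 19], [6, 19, 18, 9, 18, 19], [11, 18, 19, 15, 19, 18], [11, 19, 18, 14, 18, 19], [6, 14, 19, 18, 10, 18, 19], [9, 10, 19, 18, 15, 18, 19], [11, 19, 18, 12, 12, 18, 19], [6, 9, 6, 18, 19, 6, 19, 18], [6, 11, 6, 18, 19, 15, 19, 18], [6, 14, 6, 18, 19, 11, 19, 18], [6, 18, 6, 18, 19, 9, 19, 18], [6, 19, 18, 12, 9, 13, 18, 19], [6, 19, 18, 19, 6, 19, 18, 19], [11, 13, 18, 19, 15, 19, 18, 12], [11, 19, 18, 12, 14, 13, 18, 19], [11, 19, 18, 19, 14, 19, 18, 19], [6, 12, 12, 6, 18, 19, 11, 19, 18], [6, 14, 19, 18, 12, 10, 13, 18, 19], [9, 10, 12, 15, 19, 18, 17, 18, 19], [9, 10, 15, 19, 17, 18, 13, 18, 19], [9, 10, 15, 19, 18, 12, 18, 17, 19], [9, 10, 19, 18, 19, 15, 19, 18, 19], [11, 19, 18, 12, 19, 13, 19, 18, 19], [11, 19, 18, 19, 12, 12, 19, 18, 19], [6, 9, 19, 18, 19, 6, 19, 18, 19, 9], [6, 10,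 6, 18, 19, 6, 11, 14, 19, 18], [6, 12, 9, 13, 6, 18, 19, 6, 19, 18], [6, 12, 11, 13, 6, 18, 19, 15, 19, 18], [6, 12, 14, 13, 6, 18, 19, 11, 19, 18], [6, 13, 19, 18, 19, 6, 19, 18, 19, 12], [6, 15, 6, 18, 19, 9, 10, 15, 19, 18], [9, 10, 11, 19, 18, 12, 15, 13, 18, 19], [9, 14, 9, 19, 18, 19, 11, 19, 18, 19], [11, 13, 19, 18, 19, 14, 19, 18, 19, 12], [11, 19, 18, 19, 12, 14, 13, 19, 18, 19], [11, 19, 18, 19, 17, 14, 17, 19, 18, 19], [6, 12, 19, 13, 9, 19, 18, 19, 11, 19, 18], [9, 10, 19, 18, 19, 17, 15, 17, 19, 18, 19], [9, 11, 9, 19, 18, 19, 11, 14, 19, 18, 19], [9, 12, 10, 13, 19, 18, 19, 15, 19, 18, 19], [9, 12, 12, 9, 19, 18, 19, 11, 19, 18, 19], [9, 17, 10, 17, 19, 18, 19, 11, 19, 18, 19], [11, 17, 19, 18, 19, 14, 15, 19, 18, 19, 17], [11, 19, 18, 19, 12, 17, 13, 17, 19, 18, 19], [12, 19, 18, 19, 18, 19, 18, 19, 17, 14, 18], [6, 11, 14, 19, 18, 6, 12, 10, 13, 6,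 18, 19], [6, 12, 17, 6, 18, 19, 10, 17, 6, 17, 19, 18], [6, 12, 17, 6, 18, 19, 17, 6, 17, 10, 19, 18], [6, 12, 18, 13, 6, 18, 19, 17, 6, 17, 19, 18], [6, 13, 9, 19, 18, 19, 6, 19, 18, 19, 9, 12], [6, 14, 6, 17, 19, 18, 19, 11, 19, 18, 19, 17], [9, 10, 11, 12, 15, 19, 18, 12, 17, 13, 18, 19], [9, 10, 11, 19, 18, 19, 12, 15, 13, 19, 18, 19], [9, 10, 15, 19, 18, 19, 9, 15, 9, 19, 18, 19], [9, 12, 14, 13, 9, 19, 18, 19, 11, 19, 18, 19], [9, 12, 18, 17, 9, 19, 18, 19, 18, 19, 18, 19], [9, 17, 9, 17, 19, 18, 19, 11, 15, 19, 18, 19], [9, 17, 9, 17, 19, 18, 19, 15, 11, 19, 18, 19], [9, 17, 14, 17, 9, 19, 18, 19, 11, 19, 18, 19], [11, 15, 18, 19, 18, 19, 12, 18, 17, 19, 18, 19], [11, 15, 18, 19, 18, 19, 17, 18, 13, 19, 18, 19], [11, 19, 18, 19, 12, 17, 14, 17, 13, 19, 18, 19], [6, 10, 17, 13, 19, 18, 19, 6, 14, 19, 18, 19, 17], [6, 10, 17, 13, 19, 18, 19, 14, 6, 19, 18, 19,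 17], [6, 11, 6, 17, 19, 18, 19, 14, 15, 19, 18, 19, 17], [6, 12, 15, 13, 6, 18, 19, 9, 10, 11, 15, 19, 18], [6, 13, 17, 9, 19, 18, 19, 6, 14, 19, 18, 19, 17], [6, 14, 19, 18, 19, 9, 17, 6, 17, 13, 19, 18, 19], [6, 14, 19, 18, 19, 12, 17, 6, 17, 9, 19, 18, 19], [9, 10, 12, 15, 19, 18, 19, 17, 19, 17, 19, 18, 19], [9, 12, 11, 13, 9, 19, 18, 19, 11, 14, 19, 18, 19], [9, 18, 9, 19, 18, 19, 13, 18, 14, 17, 19, 18, 19], [11, 17, 13, 19, 18, 19, 14, 15, 19, 18, 19, 12, 17], [6, 9, 17, 13, 19, 18, 19, 14, 15, 6, 19, 18, 19, 17], [6, 9, 17, 13, 19, 18, 19, 15, 14, 6, 19, 18, 19, 17], [6, 11, 14, 19, 18, 19, 9, 12, 17, 6, 17, 19, 18, 19], [6, 11, 14, 19, 18, 19, 9, 17, 13, 6, 17, 19, 18, 19], [6, 11, 14, 19, 18, 19, 17, 6, 17, 13, 9, 19, 18, 19], [9, 10, 11, 19, 18, 19, 12, 17, 15, 17, 13, 19, 18, 19], [9, 10, 15, 19, 18, 19, 9, 17, 15, 17, 9, 19, 18, 19], [9, 17, 11, 17, 9,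 19, 18, 19, 11, 14, 15, 19, 18, 19], [10, 18, 10, 19, 18, 19, 12, 17, 18, 17, 13, 19, 18, 19], [6, 15, 6, 17, 19, 18, 19, 9, 10, 14, 15, 19, 18, 19, 17], [6, 15, 19, 18, 19, 17, 6, 18, 6, 17, 19, 18, 19, 6, 18], [6, 17, 19, 18, 19, 9, 10, 11, 12, 19, 18, 19, 9, 17, 19], [6, 17, 19, 18, 19, 12, 11, 10, 9, 19, 18, 19, 9, 17, 19], [9, 10, 11, 15, 19, 18, 19, 9, 12, 15, 13, 9, 19, 18, 19], [9, 10, 11, 12, 15, 19, 18, 19, 12, 17, 19, 17, 13, 19, 18, 19]] : List (List ℕ)), ev Cfsg.Agent.HSR.Mo.π r = 1 :=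
  rels_of_checks Cfsg.Agent.HSR.Mo.spec (K := 7) (by decide) sat_inv _ [[0, 1, 2, 3, 4, 5, 6]] (by decide) ⟨sat_rel_0_0, trivial⟩

theorem sat_rel : ∀ r ∈ ([[0, 0, 0, 0], [2, 2, 2, 2], [4, 4, 4, 4], [0, 2, 1, 3], [0, 4, 1, 5], [2, 4, 3, 5], [7, 0, 8, 3], [7, 2, 8, 5], [7, 4, 8, 5, 3, 3, 1], [6, 0, 6, 3], [6, 4, 6, 4], [7, 7, 7, 7, 7, 7, 7], [6, 7, 6, 7, 6, 7], [7, 6, 8, 6, 7, 6, 8, 6, 7, 6, 8, 6, 7, 6, 8, 6], [2, 2, 10], [4, 4, 9], [12, 12, 14], [0, 0, 10, 14], [0, 0, 14, 10], [0, 2, 9, 13], [0, 2, 13, 9], [0, 9, 1, 9], [0, 9, 2, 13], [0, 9, 13, 2], [0, 10, 0, 14], [0, 10, 1, 10], [0, 11, 2, 11], [0, 12, 1, 13], [0, 13, 2, 9], [0, 13, 9, 2], [0, 14, 1, 14], [0, 16, 0, 16], [0, 17, 4, 17], [0, 18, 0, 18], [2, 12, 3, 13], [2, 14, 3, 14], [2, 15, 5, 15], [2, 16, 3, 16], [4, 10, 5, 10], [4, 12, 5, 13], [4, 14, 5, 14], [4, 18, 4, 18], [6, 8, 15, 7], [6, 9, 6, 9], [6, 11,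 6, 11], [6, 12, 6, 13], [6, 14, 6, 14], [6, 16, 11, 16], [7, 10, 8, 9], [9, 10, 9, 10], [9, 12, 9, 13], [9, 14, 9, 14], [9, 15, 10, 15], [9, 18, 9, 18], [10, 12, 10, 13], [10, 14, 10, 14], [10, 16, 10, 16], [11, 12, 11, 13], [11, 14, 11, 14], [11, 15, 11, 15], [11, 18, 15, 18], [12, 15, 12, 15], [12, 16, 12, 16], [12, 17, 12, 17], [14, 15, 14, 15], [14, 16, 14, 16], [14, 17, 14, 17], [15, 17, 15, 17], [0, 0, 2, 2, 14], [0, 2, 4, 4, 13], [6, 15, 16, 8, 18], [7, 14, 8, 9, 10], [9, 10, 18, 14, 18], [9, 14, 18, 10, 18], [0, 0, 9, 7, 9, 8], [0, 4, 10, 7, 5, 8], [0, 4, 12, 7, 13, 8], [0, 4, 12, 18, 13, 18], [0, 4, 17, 18, 17, 18], [0, 7, 18, 12, 18, 8], [0, 15, 8, 13, 7, 15], [0, 16, 18, 1, 18, 16], [0, 18, 2, 18, 5, 3], [0, 18, 6, 2, 6, 18], [0, 18, 8, 2, 7, 18], [2, 18, 8, 13, 7, 18], [4, 6, 18, 5, 18, 6], [4, 7, 15, 5, 15, 8], [4, 16, 18, 13, 18, 16], [6, 7, 7, 18, 8,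 8], [6, 9, 6, 18, 9, 18], [6, 11, 6, 18, 15, 18], [6, 16, 8, 11, 15, 18], [6, 16, 8, 15, 11, 18], [6, 16, 18, 15, 18, 16], [6, 18, 6, 18, 6, 18], [7, 11, 16, 18, 11, 15], [7, 11, 16, 18, 15, 11], [7, 15, 8, 11, 7, 18], [7, 15, 9, 15, 8, 9], [7, 18, 10, 18, 8, 14], [9, 16, 18, 14, 18, 16], [16, 18, 16, 18, 16, 18], [0, 0, 7, 18, 14, 18, 8], [0, 0, 18, 6, 10, 6, 18], [4, 8, 6, 17, 6, 7, 6], [6, 7, 16, 18, 11, 6, 18], [6, 7, 18, 16, 18, 8, 11], [6, 14, 6, 18, 9, 10, 18], [6, 15, 6, 18, 11, 15, 18], [7, 15, 14, 15, 8, 9, 10], [7, 15, 16, 15, 8, 11, 15], [9, 10, 18, 16, 14, 16, 18], [9, 14, 18, 16, 10, 16, 18], [0, 0, 9, 7, 15, 10, 15, 8], [0, 0, 9, 7, 18, 9, 18, 8], [0, 4, 10, 7, 15, 3, 15, 8], [0, 4, 12, 18, 6, 13, 6, 18], [0, 5, 14, 7, 18, 5, 18, 8], [0, 6, 18, 5, 3, 0, 18, 6], [0, 7, 15, 12, 15, 8, 12, 4], [0, 7, 18, 17, 8, 17, 16, 17], [0, 11, 15, 18, 16, 17, 15, 8],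 [0, 18, 16, 2, 16, 18, 5, 3], [0, 18, 16, 12, 16, 18, 12, 4], [2, 17, 9, 7, 15, 17, 16, 18], [4, 16, 17, 7, 18, 15, 16, 18], [6, 7, 18, 6, 15, 8, 16, 15], [6, 8, 8, 8, 16, 7, 7, 7], [6, 8, 8, 11, 15, 16, 15, 18], [7, 15, 7, 18, 15, 16, 15, 11], [7, 17, 18, 8, 17, 16, 15, 11], [7, 18, 8, 16, 15, 11, 18, 16], [7, 18, 15, 16, 18, 16, 15, 11], [0, 4, 11, 9, 18, 6, 17, 6, 18], [4, 16, 17, 16, 7, 15, 11, 18, 8], [4, 16, 17, 16, 7, 15, 18, 15, 8], [4, 16, 17, 16, 7, 18, 11, 15, 8], [6, 7, 6, 8, 6, 7, 6, 8, 11], [6, 19, 9, 19], [12, 19, 12, 19], [14, 19, 14, 19], [15, 19, 15, 19], [16, 19, 16, 19], [6, 11, 19, 10, 19], [9, 10, 19, 11, 19], [12, 17, 19, 13, 19, 17], [14, 17, 19, 14, 19, 17], [15, 17, 19, 15, 19, 17], [17, 19, 17, 19, 17, 19], [6, 14, 19, 17, 10, 17, 19], [6, 10, 13, 19, 17, 6, 17, 19], [6, 11, 14, 19, 17, 9, 17, 19], [9, 10, 11, 19, 17, 11, 17, 19], [9, 16,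 17, 19, 11, 19, 17, 16], [12, 16, 17, 19, 12, 19, 17, 16], [14, 16, 17, 19, 14, 19, 17, 16], [16, 17, 19, 17, 19, 17, 16, 19], [6, 14, 19, 17, 16, 10, 16, 17, 19], [12, 16, 19, 17, 16, 17, 16, 17, 19], [6, 10, 13, 19, 17, 16, 11, 16, 17, 19], [6, 16, 17, 19, 9, 10, 11, 19, 17, 16], [10, 15, 16, 17, 19, 11, 19, 17, 16, 15], [12, 15, 16, 17, 19, 13, 19, 17, 16, 15], [14, 15, 16, 17, 19, 14, 19, 17, 16, 15], [15, 16, 15, 16, 17, 19, 15, 19, 17, 16], [15, 16, 17, 19, 17, 19, 17, 16, 15, 19], [6, 14, 19, 17, 16, 15, 9, 15, 16, 17, 19], [12, 16, 19, 17, 16, 15, 17, 15, 16, 17, 19], [6, 10, 13, 19, 17, 16, 15, 11, 15, 16, 17, 19], [6, 9, 11, 13, 19, 17, 16, 15, 6, 15, 16, 17, 19], [6, 19, 18, 9, 18, 19], [11, 18, 19, 15, 19, 18], [11, 19, 18, 14, 18, 19], [6, 14, 19, 18, 10, 18, 19], [9, 10, 19, 18, 15, 18, 19], [11, 19, 18, 12, 12, 18, 19], [6, 9, 6, 18, 19, 6, 19, 18],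 [6, 11, 6, 18, 19, 15, 19, 18], [6, 14, 6, 18, 19, 11, 19, 18], [6, 18, 6, 18, 19, 9, 19, 18], [6, 19, 18, 12, 9, 13, 18, 19], [6, 19, 18, 19, 6, 19, 18, 19], [11, 13, 18, 19, 15, 19, 18, 12], [11, 19, 18, 12, 14, 13, 18, 19], [11, 19, 18, 19, 14, 19, 18, 19], [6, 12, 12, 6, 18, 19, 11, 19, 18], [6, 14, 19, 18, 12, 10, 13, 18, 19], [9, 10, 12, 15, 19, 18, 17, 18, 19], [9, 10, 15, 19, 17, 18, 13, 18, 19], [9, 10, 15, 19, 18, 12, 18, 17, 19], [9, 10, 19, 18, 19, 15, 19, 18, 19], [11, 19, 18, 12, 19, 13, 19, 18, 19], [11, 19, 18, 19, 12, 12, 19, 18, 19], [6, 9, 19, 18, 19, 6, 19, 18, 19, 9], [6, 10, 6, 18, 19, 6, 11, 14, 19, 18], [6, 12, 9, 13, 6, 18, 19, 6, 19, 18], [6, 12, 11, 13, 6, 18, 19, 15, 19, 18], [6, 12, 14, 13, 6, 18, 19, 11, 19, 18], [6, 13, 19, 18, 19, 6, 19, 18, 19, 12], [6, 15, 6, 18, 19, 9, 10, 15, 19, 18], [9, 10, 11, 19, 18, 12, 15, 13, 18, 19], [9,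 14, 9, 19, 18, 19, 11, 19, 18, 19], [11, 13, 19, 18, 19, 14, 19, 18, 19, 12], [11, 19, 18, 19, 12, 14, 13, 19, 18, 19], [11, 19, 18, 19, 17, 14, 17, 19, 18, 19], [6, 12, 19, 13, 9, 19, 18, 19, 11, 19, 18], [9, 10, 19, 18, 19, 17, 15, 17, 19, 18, 19], [9, 11, 9, 19, 18, 19, 11, 14, 19, 18, 19], [9, 12, 10, 13, 19, 18, 19, 15, 19, 18, 19], [9, 12, 12, 9, 19, 18, 19, 11, 19, 18, 19], [9, 17, 10, 17, 19, 18, 19, 11, 19, 18, 19], [11, 17, 19, 18, 19, 14, 15, 19, 18, 19, 17], [11, 19, 18, 19, 12, 17, 13, 17, 19, 18, 19], [12, 19, 18, 19, 18, 19, 18, 19, 17, 14, 18], [6, 11, 14, 19, 18, 6, 12, 10, 13, 6, 18, 19], [6, 12, 17, 6, 18, 19, 10, 17, 6, 17, 19, 18], [6, 12, 17, 6, 18, 19, 17, 6, 17, 10, 19, 18], [6, 12, 18, 13, 6, 18, 19, 17, 6, 17, 19, 18], [6, 13, 9, 19, 18, 19, 6, 19, 18, 19, 9, 12], [6, 14, 6, 17, 19, 18, 19, 11, 19, 18, 19, 17], [9, 10, 11, 12, 15, 19, 18,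 12, 17, 13, 18, 19], [9, 10, 11, 19, 18, 19, 12, 15, 13, 19, 18, 19], [9, 10, 15, 19, 18, 19, 9, 15, 9, 19, 18, 19], [9, 12, 14, 13, 9, 19, 18, 19, 11, 19, 18, 19], [9, 12, 18, 17, 9, 19, 18, 19, 18, 19, 18, 19], [9, 17, 9, 17, 19, 18, 19, 11, 15, 19, 18, 19], [9, 17, 9, 17, 19, 18, 19, 15, 11, 19, 18, 19], [9, 17, 14, 17, 9, 19, 18, 19, 11, 19, 18, 19], [11, 15, 18, 19, 18, 19, 12, 18, 17, 19, 18, 19], [11, 15, 18, 19, 18, 19, 17, 18, 13, 19, 18, 19], [11, 19, 18, 19, 12, 17, 14, 17, 13, 19, 18, 19], [6, 10, 17, 13, 19, 18, 19, 6, 14, 19, 18, 19, 17], [6, 10, 17, 13, 19, 18, 19, 14, 6, 19, 18, 19, 17], [6, 11, 6, 17, 19, 18, 19, 14, 15, 19, 18, 19, 17], [6, 12, 15, 13, 6, 18, 19, 9, 10, 11, 15, 19, 18], [6, 13, 17, 9, 19, 18, 19, 6, 14, 19, 18, 19, 17], [6, 14, 19, 18, 19, 9, 17, 6, 17, 13, 19, 18, 19], [6, 14, 19, 18, 19, 12, 17, 6, 17, 9, 19, 18, 19], [9, 10, 12,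 15, 19, 18, 19, 17, 19, 17, 19, 18, 19], [9, 12, 11, 13, 9, 19, 18, 19, 11, 14, 19, 18, 19], [9, 18, 9, 19, 18, 19, 13, 18, 14, 17, 19, 18, 19], [11, 17, 13, 19, 18, 19, 14, 15, 19, 18, 19, 12, 17], [6, 9, 17, 13, 19, 18, 19, 14, 15, 6, 19, 18, 19, 17], [6, 9, 17, 13, 19, 18, 19, 15, 14, 6, 19, 18, 19, 17], [6, 11, 14, 19, 18, 19, 9, 12, 17, 6, 17, 19, 18, 19], [6, 11, 14, 19, 18, 19, 9, 17, 13, 6, 17, 19, 18, 19], [6, 11, 14, 19, 18, 19, 17, 6, 17, 13, 9, 19, 18, 19], [9, 10, 11, 19, 18, 19, 12, 17, 15, 17, 13, 19, 18, 19], [9, 10, 15, 19, 18, 19, 9, 17, 15, 17, 9, 19, 18, 19], [9, 17, 11, 17, 9, 19, 18, 19, 11, 14, 15, 19, 18, 19], [10, 18, 10, 19, 18, 19, 12, 17, 18, 17, 13, 19, 18, 19], [6, 15, 6, 17, 19, 18, 19, 9, 10, 14, 15, 19, 18, 19, 17], [6, 15, 19, 18, 19, 17, 6, 18, 6, 17, 19, 18, 19, 6, 18], [6, 17, 19, 18, 19, 9, 10, 11, 12, 19, 18, 19, 9, 17, 19], [6,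 17, 19, 18, 19, 12, 11, 10, 9, 19, 18, 19, 9, 17, 19], [9, 10, 11, 15, 19, 18, 19, 9, 12, 15, 13, 9, 19, 18, 19], [9, 10, 11, 12, 15, 19, 18, 19, 12, 17, 19, 17, 13, 19, 18, 19]] : List (List ℕ)), ev Cfsg.Agent.HSR.Mo.π r = 1 :=
  rels_join [[[0, 0, 0, 0], [2, 2, 2, 2], [4, 4, 4, 4], [0, 2, 1, 3], [0, 4, 1, 5], [2, 4, 3, 5], [7, 0, 8, 3], [7, 2, 8, 5], [7, 4, 8, 5, 3, 3, 1], [6, 0, 6, 3], [6, 4, 6, 4], [7, 7, 7, 7, 7, 7, 7], [6, 7, 6, 7, 6, 7], [7, 6, 8, 6, 7, 6, 8, 6, 7, 6, 8, 6, 7, 6, 8, 6], [2, 2, 10], [4, 4, 9], [12, 12, 14], [0, 0, 10, 14], [0, 0, 14, 10], [0, 2, 9, 13], [0, 2, 13, 9], [0, 9, 1, 9], [0, 9, 2, 13], [0, 9, 13, 2], [0, 10, 0, 14], [0, 10, 1, 10], [0, 11, 2, 11], [0, 12, 1, 13], [0, 13, 2, 9], [0, 13, 9, 2], [0, 14, 1, 14], [0, 16, 0, 16], [0, 17, 4, 17], [0, 18, 0, 18], [2, 12, 3, 13], [2, 14, 3, 14], [2, 15, 5, 15], [2, 16, 3, 16], [4, 10, 5, 10],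 [4, 12, 5, 13], [4, 14, 5, 14], [4, 18, 4, 18], [6, 8, 15, 7], [6, 9, 6, 9], [6, 11, 6, 11], [6, 12, 6, 13], [6, 14, 6, 14], [6, 16, 11, 16], [7, 10, 8, 9], [9, 10, 9, 10], [9, 12, 9, 13], [9, 14, 9, 14], [9, 15, 10, 15], [9, 18, 9, 18], [10, 12, 10, 13], [10, 14, 10, 14], [10, 16, 10, 16], [11, 12, 11, 13], [11, 14, 11, 14], [11, 15, 11, 15], [11, 18, 15, 18], [12, 15, 12, 15], [12, 16, 12, 16], [12, 17, 12, 17], [14, 15, 14, 15], [14, 16, 14, 16], [14, 17, 14, 17], [15, 17, 15, 17], [0, 0, 2, 2, 14], [0, 2, 4, 4, 13], [6, 15, 16, 8, 18], [7, 14, 8, 9, 10], [9, 10, 18, 14, 18], [9, 14, 18, 10, 18], [0, 0, 9, 7, 9, 8], [0, 4, 10, 7, 5, 8], [0, 4, 12, 7, 13, 8], [0, 4, 12, 18, 13, 18], [0, 4, 17, 18, 17, 18], [0, 7, 18, 12, 18, 8], [0, 15, 8, 13, 7, 15], [0, 16, 18, 1, 18, 16], [0, 18, 2, 18, 5, 3], [0, 18, 6, 2, 6, 18], [0, 18, 8, 2, 7, 18], [2, 18, 8, 13, 7, 18],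 [4, 6, 18, 5, 18, 6], [4, 7, 15, 5, 15, 8], [4, 16, 18, 13, 18, 16], [6, 7, 7, 18, 8, 8], [6, 9, 6, 18, 9, 18], [6, 11, 6, 18, 15, 18], [6, 16, 8, 11, 15, 18], [6, 16, 8, 15, 11, 18], [6, 16, 18, 15, 18, 16], [6, 18, 6, 18, 6, 18], [7, 11, 16, 18, 11, 15], [7, 11, 16, 18, 15, 11], [7, 15, 8, 11, 7, 18], [7, 15, 9, 15, 8, 9], [7, 18, 10, 18, 8, 14], [9, 16, 18, 14, 18, 16], [16, 18, 16, 18, 16, 18], [0, 0, 7, 18, 14, 18, 8], [0, 0, 18, 6, 10, 6, 18], [4, 8, 6, 17, 6, 7, 6], [6, 7, 16, 18, 11, 6, 18], [6, 7, 18, 16, 18, 8, 11], [6, 14, 6, 18, 9, 10, 18], [6, 15, 6, 18, 11, 15, 18], [7, 15, 14, 15, 8, 9, 10], [7, 15, 16, 15, 8, 11, 15], [9, 10, 18, 16, 14, 16, 18], [9, 14, 18, 16, 10, 16, 18], [0, 0, 9, 7, 15, 10, 15, 8], [0, 0, 9, 7, 18, 9, 18, 8], [0, 4, 10, 7, 15, 3, 15, 8], [0, 4, 12, 18, 6, 13, 6, 18], [0, 5, 14, 7, 18, 5, 18, 8], [0, 6, 18, 5, 3, 0, 18, 6], [0,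 7, 15, 12, 15, 8, 12, 4], [0, 7, 18, 17, 8, 17, 16, 17], [0, 11, 15, 18, 16, 17, 15, 8], [0, 18, 16, 2, 16, 18, 5, 3], [0, 18, 16, 12, 16, 18, 12, 4], [2, 17, 9, 7, 15, 17, 16, 18], [4, 16, 17, 7, 18, 15, 16, 18], [6, 7, 18, 6, 15, 8, 16, 15], [6, 8, 8, 8, 16, 7, 7, 7], [6, 8, 8, 11, 15, 16, 15, 18], [7, 15, 7, 18, 15, 16, 15, 11], [7, 17, 18, 8, 17, 16, 15, 11], [7, 18, 8, 16, 15, 11, 18, 16], [7, 18, 15, 16, 18, 16, 15, 11], [0, 4, 11, 9, 18, 6, 17, 6, 18], [4, 16, 17, 16, 7, 15, 11, 18, 8], [4, 16, 17, 16, 7, 15, 18, 15, 8], [4, 16, 17, 16, 7, 18, 11, 15, 8], [6, 7, 6, 8, 6, 7, 6, 8, 11], [6, 19, 9, 19], [12, 19, 12, 19], [14, 19, 14, 19], [15, 19, 15, 19], [16, 19, 16, 19], [6, 11, 19, 10, 19], [9, 10, 19, 11, 19], [12, 17, 19, 13, 19, 17], [14, 17, 19, 14, 19, 17], [15, 17, 19, 15, 19, 17], [17, 19, 17, 19, 17, 19], [6, 14, 19, 17, 10, 17, 19], [6, 10, 13, 19,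 17, 6, 17, 19], [6, 11, 14, 19, 17, 9, 17, 19], [9, 10, 11, 19, 17, 11, 17, 19], [9, 16, 17, 19, 11, 19, 17, 16], [12, 16, 17, 19, 12, 19, 17, 16], [14, 16, 17, 19, 14, 19, 17, 16], [16, 17, 19, 17, 19, 17, 16, 19], [6, 14, 19, 17, 16, 10, 16, 17, 19], [12, 16, 19, 17, 16, 17, 16, 17, 19], [6, 10, 13, 19, 17, 16, 11, 16, 17, 19], [6, 16, 17, 19, 9, 10, 11, 19, 17, 16], [10, 15, 16, 17, 19, 11, 19, 17, 16, 15], [12, 15, 16, 17, 19, 13, 19, 17, 16, 15], [14, 15, 16, 17, 19, 14, 19, 17, 16, 15], [15, 16, 15, 16, 17, 19, 15, 19, 17, 16], [15, 16, 17, 19, 17, 19, 17, 16, 15, 19], [6, 14, 19, 17, 16, 15, 9, 15, 16, 17, 19], [12, 16, 19, 17, 16, 15, 17, 15, 16, 17, 19], [6, 10, 13, 19, 17, 16, 15, 11, 15, 16, 17, 19], [6, 9, 11, 13, 19, 17, 16, 15, 6, 15, 16, 17, 19], [6, 19, 18, 9, 18, 19], [11, 18, 19, 15, 19, 18], [11, 19, 18, 14, 18, 19], [6, 14, 19, 18, 10, 18, 19],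 [9, 10, 19, 18, 15, 18, 19], [11, 19, 18, 12, 12, 18, 19], [6, 9, 6, 18, 19, 6, 19, 18], [6, 11, 6, 18, 19, 15, 19, 18], [6, 14, 6, 18, 19, 11, 19, 18], [6, 18, 6, 18, 19, 9, 19, 18], [6, 19, 18, 12, 9, 13, 18, 19], [6, 19, 18, 19, 6, 19, 18, 19], [11, 13, 18, 19, 15, 19, 18, 12], [11, 19, 18, 12, 14, 13, 18, 19], [11, 19, 18, 19, 14, 19, 18, 19], [6, 12, 12, 6, 18, 19, 11, 19, 18], [6, 14, 19, 18, 12, 10, 13, 18, 19], [9, 10, 12, 15, 19, 18, 17, 18, 19], [9, 10, 15, 19, 17, 18, 13, 18, 19], [9, 10, 15, 19, 18, 12, 18, 17, 19], [9, 10, 19, 18, 19, 15, 19, 18, 19], [11, 19, 18, 12, 19, 13, 19, 18, 19], [11, 19, 18, 19, 12, 12, 19, 18, 19], [6, 9, 19, 18, 19, 6, 19, 18, 19, 9], [6, 10, 6, 18, 19, 6, 11, 14, 19, 18], [6, 12, 9, 13, 6, 18, 19, 6, 19, 18], [6, 12, 11, 13, 6, 18, 19, 15, 19, 18], [6, 12, 14, 13, 6, 18, 19, 11, 19, 18], [6, 13, 19, 18, 19, 6, 19, 18, 19,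 12], [6, 15, 6, 18, 19, 9, 10, 15, 19, 18], [9, 10, 11, 19, 18, 12, 15, 13, 18, 19], [9, 14, 9, 19, 18, 19, 11, 19, 18, 19], [11, 13, 19, 18, 19, 14, 19, 18, 19, 12], [11, 19, 18, 19, 12, 14, 13, 19, 18, 19], [11, 19, 18, 19, 17, 14, 17, 19, 18, 19], [6, 12, 19, 13, 9, 19, 18, 19, 11, 19, 18], [9, 10, 19, 18, 19, 17, 15, 17, 19, 18, 19], [9, 11, 9, 19, 18, 19, 11, 14, 19, 18, 19], [9, 12, 10, 13, 19, 18, 19, 15, 19, 18, 19], [9, 12, 12, 9, 19, 18, 19, 11, 19, 18, 19], [9, 17, 10, 17, 19, 18, 19, 11, 19, 18, 19], [11, 17, 19, 18, 19, 14, 15, 19, 18, 19, 17], [11, 19, 18, 19, 12, 17, 13, 17, 19, 18, 19], [12, 19, 18, 19, 18, 19, 18, 19, 17, 14, 18], [6, 11, 14, 19, 18, 6, 12, 10, 13, 6, 18, 19], [6, 12, 17, 6, 18, 19, 10, 17, 6, 17, 19, 18], [6, 12, 17, 6, 18, 19, 17, 6, 17, 10, 19, 18], [6, 12, 18, 13, 6, 18, 19, 17, 6, 17, 19, 18], [6, 13, 9, 19, 18, 19, 6, 19, 18,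 19, 9, 12], [6, 14, 6, 17, 19, 18, 19, 11, 19, 18, 19, 17], [9, 10, 11, 12, 15, 19, 18, 12, 17, 13, 18, 19], [9, 10, 11, 19, 18, 19, 12, 15, 13, 19, 18, 19], [9, 10, 15, 19, 18, 19, 9, 15, 9, 19, 18, 19], [9, 12, 14, 13, 9, 19, 18, 19, 11, 19, 18, 19], [9, 12, 18, 17, 9, 19, 18, 19, 18, 19, 18, 19], [9, 17, 9, 17, 19, 18, 19, 11, 15, 19, 18, 19], [9, 17, 9, 17, 19, 18, 19, 15, 11, 19, 18, 19], [9, 17, 14, 17, 9, 19, 18, 19, 11, 19, 18, 19], [11, 15, 18, 19, 18, 19, 12, 18, 17, 19, 18, 19], [11, 15, 18, 19, 18, 19, 17, 18, 13, 19, 18, 19], [11, 19, 18, 19, 12, 17, 14, 17, 13, 19, 18, 19], [6, 10, 17, 13, 19, 18, 19, 6, 14, 19, 18, 19, 17], [6, 10, 17, 13, 19, 18, 19, 14, 6, 19, 18, 19, 17], [6, 11, 6, 17, 19, 18, 19, 14, 15, 19, 18, 19, 17], [6, 12, 15, 13, 6, 18, 19, 9, 10, 11, 15, 19, 18], [6, 13, 17, 9, 19, 18, 19, 6, 14, 19, 18, 19, 17], [6, 14, 19, 18, 19, 9, 17,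 6, 17, 13, 19, 18, 19], [6, 14, 19, 18, 19, 12, 17, 6, 17, 9, 19, 18, 19], [9, 10, 12, 15, 19, 18, 19, 17, 19, 17, 19, 18, 19], [9, 12, 11, 13, 9, 19, 18, 19, 11, 14, 19, 18, 19], [9, 18, 9, 19, 18, 19, 13, 18, 14, 17, 19, 18, 19], [11, 17, 13, 19, 18, 19, 14, 15, 19, 18, 19, 12, 17], [6, 9, 17, 13, 19, 18, 19, 14, 15, 6, 19, 18, 19, 17], [6, 9, 17, 13, 19, 18, 19, 15, 14, 6, 19, 18, 19, 17], [6, 11, 14, 19, 18, 19, 9, 12, 17, 6, 17, 19, 18, 19], [6, 11, 14, 19, 18, 19, 9, 17, 13, 6, 17, 19, 18, 19], [6, 11, 14, 19, 18, 19, 17, 6, 17, 13, 9, 19, 18, 19], [9, 10, 11, 19, 18, 19, 12, 17, 15, 17, 13, 19, 18, 19], [9, 10, 15, 19, 18, 19, 9, 17, 15, 17, 9, 19, 18, 19], [9, 17, 11, 17, 9, 19, 18, 19, 11, 14, 15, 19, 18, 19], [10, 18, 10, 19, 18, 19, 12, 17, 18, 17, 13, 19, 18, 19], [6, 15, 6, 17, 19, 18, 19, 9, 10, 14, 15, 19, 18, 19, 17], [6, 15, 19, 18, 19, 17, 6, 18,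 6, 17, 19, 18, 19, 6, 18], [6, 17, 19, 18, 19, 9, 10, 11, 12, 19, 18, 19, 9, 17, 19], [6, 17, 19, 18, 19, 12, 11, 10, 9, 19, 18, 19, 9, 17, 19], [9, 10, 11, 15, 19, 18, 19, 9, 12, 15, 13, 9, 19, 18, 19], [9, 10, 11, 12, 15, 19, 18, 19, 12, 17, 19, 17, 13, 19, 18, 19]]] ⟨sat_rel_0, trivial⟩

theorem sat : Sat Cfsg.Agent.HSR.P Cfsg.Agent.HSR.Mo.π :=
  ⟨Cfsg.Agent.HSR.Mo.out, sat_inv, sat_rel⟩

theorem ch_c0 : levelC Cfsg.Agent.HSR.Mo.act 7 [] 4 [[0], [1], [2], [3], [4], [5], [6], [7], [8], [9], [10], [11], [12], [13], [14], [15], [16], [17], [18], [19]] 3 100 = true :=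
  by decide +kernel

theorem ch_l0 : LevelOK Cfsg.Agent.HSR.Mo.π [] 4 100 :=
  level_of_check Cfsg.Agent.HSR.Mo.spec ch_c0

theorem ch_c1 : levelC Cfsg.Agent.HSR.Mo.act 7 [4] 82 [[13, 19], [0, 18, 5], [1, 16, 6]] 5 22 = true :=
  by decide +kernel

theorem ch_l1 : LevelOK Cfsg.Agent.HSR.Mo.π [4] 82 22 :=
  level_of_check Cfsg.Agent.HSR.Mo.spec ch_c1

theorem ch_c2 : levelC Cfsg.Agent.HSR.Mo.act 7 [82, 4] 48 [[0, 18, 5], [1, 16, 6], [13, 19, 0, 18, 5, 13, 19]] 5 56 = true :=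
  by decide +kernel

theorem ch_l2 : LevelOK Cfsg.Agent.HSR.Mo.π [82, 4] 48 56 :=
  level_of_check Cfsg.Agent.HSR.Mo.spec ch_c2

theorem ch_c3 : levelC Cfsg.Agent.HSR.Mo.act 7 [48, 82, 4] 71 [[1, 16, 6], [0, 18, 5, 1, 16, 6, 0, 18, 5, 13, 19, 0, 18, 5, 13, 19, 0, 18, 5, 1, 16, 6, 0, 18, 5]] 8 45 = true :=
  by decide +kernel

theorem ch_l3 : LevelOK Cfsg.Agent.HSR.Mo.π [48, 82, 4] 71 45 :=
  level_of_check Cfsg.Agent.HSR.Mo.spec ch_c3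

theorem ch_c4 : levelC Cfsg.Agent.HSR.Mo.act 7 [71, 48, 82, 4] 0 [[1, 16, 6], [0, 18, 5, 1, 16, 6, 0, 18, 5, 13, 19, 0, 18, 5, 13, 19, 0, 18, 5, 1, 16, 6, 0, 18, 5, 1, 16, 6, 0, 18, 5, 1, 16, 6, 0, 18, 5, 13, 19, 0, 18, 5, 13, 19, 0, 18, 5, 1, 16, 6, 0, 18, 5, 6, 16, 0, 0, 18, 5, 1, 16, 6, 0, 18, 5, 13, 19, 0, 18, 5, 13, 19, 0, 18, 5, 1, 16, 6, 0, 18, 5, 1, 16, 6, 1, 16, 6, 0, 18, 5, 1, 16, 6, 0, 18, 5, 13, 19, 0, 18, 5, 13, 19, 0, 18, 5, 1, 16, 6, 0, 18, 5, 6, 16, 0, 0, 18, 5, 1, 16, 6, 0, 18, 5, 13, 19, 0, 18, 5, 13, 19, 0, 18, 5, 1, 16, 6, 0, 18, 5, 1, 16, 6, 1, 16, 6, 0, 18, 5, 1, 16, 6, 0, 18, 5, 13, 19, 0, 18, 5, 13, 19, 0, 18, 5, 1, 16, 6, 0, 18, 5]] 2 8 = true :=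
  by decide +kernel

theorem ch_l4 : LevelOK Cfsg.Agent.HSR.Mo.π [71, 48, 82, 4] 0 8 :=
  level_of_check Cfsg.Agent.HSR.Mo.spec ch_c4

theorem ch : ChainOK Cfsg.Agent.HSR.Mo.π [] [(4, 100), (82, 22), (48, 56), (71, 45), (0, 8)] :=
  ⟨ch_l0, ch_l1, ch_l2, ch_l3, ch_l4, trivial⟩

abbrev K : Type := gen π

noncomputable def m : ℕ → K := selfT π

theorem mod : Nat.card K = 44352000 ∧ PModel P m π [0, 71, 48, 82, 4] (gen π).subtype :=
  model_self bP sat ch (by decide)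

theorem orbS_0 : orbC Cfsg.Agent.HSR.Mo.act [] [[0], [1], [2], [3], [4], [5], [6], [7], [8], [9], [10], [11], [12], [13], [14], [15], [16], [17], [18], [19]] 2 (Nat.shiftLeft 1 0) (ones 100) = true :=
  by decide +kernel

theorem orbS : OrbS Cfsg.Agent.HSR.Mo.π [] 0 (ones 100) :=
  orbS_step Cfsg.Agent.HSR.Mo.spec (orbS_init Cfsg.Agent.HSR.Mo.π [] 0) orbS_0

theorem orb : PModel.IsOrbit Cfsg.Agent.HSR.Mo.π 0 (ones 100) 100 :=
  PModel.isOrbit_of Cfsg.Agent.HSR.Mo.spec (nl := 20) (K := 7) Cfsg.Agent.HSR.Mo.out orbS (by decide +kernel)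

def wsM : List (List ℕ) := [[0], [1], [2], [3], [4], [5], [6], [7], [8]]

theorem chM_c0 : levelC (subAct Cfsg.Agent.HSR.Mo.act wsM) 7 [] 4 [[0], [1], [2], [3], [4], [5], [6], [7], [8]] 2 64 = true :=
  by decide +kernel

theorem chM_l0 : LevelOK (subT Cfsg.Agent.HSR.Mo.π wsM) [] 4 64 :=
  level_of_check (Cfsg.Agent.HSR.Mo.spec.sub wsM) chM_c0

theorem chM_c1 : levelC (subAct Cfsg.Agent.HSR.Mo.act wsM) 7 [4] 6 [[0, 2, 8, 1], [0, 5, 6, 8]] 5 42 = true :=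
  by decide +kernel

theorem chM_l1 : LevelOK (subT Cfsg.Agent.HSR.Mo.π wsM) [4] 6 42 :=
  level_of_check (Cfsg.Agent.HSR.Mo.spec.sub wsM) chM_c1

theorem chM_c2 : levelC (subAct Cfsg.Agent.HSR.Mo.act wsM) 7 [6, 4] 1 [[0, 5, 6, 8, 0, 2, 8, 2, 8, 1]] 3 4 = true :=
  by decide +kernel

theorem chM_l2 : LevelOK (subT Cfsg.Agent.HSR.Mo.π wsM) [6, 4] 1 4 :=
  level_of_check (Cfsg.Agent.HSR.Mo.spec.sub wsM) chM_c2

theorem chM : ChainOK (subT Cfsg.Agent.HSR.Mo.π wsM) [] [(4, 64), (6, 42), (1, 4)] :=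
  ⟨chM_l0, chM_l1, chM_l2, trivial⟩

theorem satM : Sat PM (subT m wsM) :=
  mod.2.sat_sub spec (by decide) (by decide +kernel) (by decide +kernel)

theorem cardM : 10752 ≤ Nat.card (gen (subT m wsM)) :=
  le_trans (by decide) (mod.2.le_card_sub chM)

def wsM2 : List (List ℕ) := [[0], [1], [2], [3], [4], [5], [5, 6], [5, 7], [8, 4]]

theorem chM2_c0 : levelC (subAct Cfsg.Agent.HSR.Mo.act wsM2) 7 [] 4 [[0], [1], [2], [3], [4], [5], [6], [7], [8]] 2 64 = true :=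
  by decide +kernel

theorem chM2_l0 : LevelOK (subT Cfsg.Agent.HSR.Mo.π wsM2) [] 4 64 :=
  level_of_check (Cfsg.Agent.HSR.Mo.spec.sub wsM2) chM2_c0

theorem chM2_c1 : levelC (subAct Cfsg.Agent.HSR.Mo.act wsM2) 7 [4] 6 [[6, 8], [0, 7, 1]] 7 42 = true :=
  by decide +kernel

theorem chM2_l1 : LevelOK (subT Cfsg.Agent.HSR.Mo.π wsM2) [4] 6 42 :=
  level_of_check (Cfsg.Agent.HSR.Mo.spec.sub wsM2) chM2_c1

theorem chM2_c2 : levelC (subAct Cfsg.Agent.HSR.Mo.act wsM2) 7 [6, 4] 1 [[0, 7, 7, 1, 7, 6]] 3 4 = true :=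
  by decide +kernel

theorem chM2_l2 : LevelOK (subT Cfsg.Agent.HSR.Mo.π wsM2) [6, 4] 1 4 :=
  level_of_check (Cfsg.Agent.HSR.Mo.spec.sub wsM2) chM2_c2

theorem chM2 : ChainOK (subT Cfsg.Agent.HSR.Mo.π wsM2) [] [(4, 64), (6, 42), (1, 4)] :=
  ⟨chM2_l0, chM2_l1, chM2_l2, trivial⟩

theorem satM2 : Sat PM2 (subT m wsM2) :=
  mod.2.sat_sub spec (by decide) (by decide +kernel) (by decide +kernel)

theorem cardM2 : 10752 ≤ Nat.card (gen (subT m wsM2)) :=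
  le_trans (by decide) (mod.2.le_card_sub chM2)

def wsH : List (List ℕ) := [[10], [9], [6], [11], [12], [13], [14], [15], [16], [17], [19]]

theorem chH_c0 : levelC (subAct Cfsg.Agent.HSR.Mo.act wsH) 7 [] 4 [[0], [1], [2], [3], [4], [5], [6], [7], [8], [9], [10]] 2 80 = true :=
  by decide +kernel

theorem chH_l0 : LevelOK (subT Cfsg.Agent.HSR.Mo.π wsH) [] 4 80 :=
  level_of_check (Cfsg.Agent.HSR.Mo.spec.sub wsH) chH_c0

theorem chH_c1 : levelC (subAct Cfsg.Agent.HSR.Mo.act wsH) 7 [4] 18 [[5, 10], [0, 7, 0], [9, 8, 9]] 4 16 = true :=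
  by decide +kernel

theorem chH_l1 : LevelOK (subT Cfsg.Agent.HSR.Mo.π wsH) [4] 18 16 :=
  level_of_check (Cfsg.Agent.HSR.Mo.spec.sub wsH) chH_c1

theorem chH_c2 : levelC (subAct Cfsg.Agent.HSR.Mo.act wsH) 7 [18, 4] 0 [[5, 10], [9, 8, 9]] 2 6 = true :=
  by decide +kernel

theorem chH_l2 : LevelOK (subT Cfsg.Agent.HSR.Mo.π wsH) [18, 4] 0 6 :=
  level_of_check (Cfsg.Agent.HSR.Mo.spec.sub wsH) chH_c2

theorem chH : ChainOK (subT Cfsg.Agent.HSR.Mo.π wsH) [] [(4, 80), (18, 16), (0, 6)] :=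
  ⟨chH_l0, chH_l1, chH_l2, trivial⟩

theorem satH : Sat PH (subT m wsH) :=
  mod.2.sat_sub spec (by decide) (by decide +kernel) (by decide +kernel)

theorem cardH : 7680 ≤ Nat.card (gen (subT m wsH)) :=
  le_trans (by decide) (mod.2.le_card_sub chH)

def wsN : List (List ℕ) := [[10], [9], [6], [11], [12], [13], [14], [15], [17], [18], [19]]

theorem chN_c0 : levelC (subAct Cfsg.Agent.HSR.Mo.act wsN) 7 [] 4 [[0], [1], [2], [3], [4], [5], [6], [7], [8], [9], [10]] 2 60 = true :=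
  by decide +kernel

theorem chN_l0 : LevelOK (subT Cfsg.Agent.HSR.Mo.π wsN) [] 4 60 :=
  level_of_check (Cfsg.Agent.HSR.Mo.spec.sub wsN) chN_c0

theorem chN_c1 : levelC (subAct Cfsg.Agent.HSR.Mo.act wsN) 7 [4] 28 [[5, 10], [0, 5, 2], [5, 8, 9]] 4 32 = true :=
  by decide +kernel

theorem chN_l1 : LevelOK (subT Cfsg.Agent.HSR.Mo.π wsN) [4] 28 32 :=
  level_of_check (Cfsg.Agent.HSR.Mo.spec.sub wsN) chN_c1

theorem chN_c2 : levelC (subAct Cfsg.Agent.HSR.Mo.act wsN) 7 [28, 4] 1 [[0, 5, 2], [5, 8, 9]] 2 6 = true :=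
  by decide +kernel

theorem chN_l2 : LevelOK (subT Cfsg.Agent.HSR.Mo.π wsN) [28, 4] 1 6 :=
  level_of_check (Cfsg.Agent.HSR.Mo.spec.sub wsN) chN_c2

theorem chN : ChainOK (subT Cfsg.Agent.HSR.Mo.π wsN) [] [(4, 60), (28, 32), (1, 6)] :=
  ⟨chN_l0, chN_l1, chN_l2, trivial⟩

theorem satN : Sat PN (subT m wsN) :=
  mod.2.sat_sub spec (by decide) (by decide +kernel) (by decide +kernel)

theorem cardN : 11520 ≤ Nat.card (gen (subT m wsN)) :=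
  le_trans (by decide) (mod.2.le_card_sub chN)

noncomputable def tabs : FT := (.node (.node (.node (.node (.node (.leaf (nat_lit 0x181e9838c4022b6d7d04852993b96546942b4fd2af8784a58993ea19178123a383e086937581a156c09b4729c453ea2c9100b4ab7c75999e9af962a8ef6e08685a25744c4c1376342de2f2de551cb814ec4490c0a025a9d)) (.leaf (nat_lit 0xc78990e7a26a5cb705bd1775aadda722c4348b23a38528c529a78234a12ed3042faf92aee5d16b2d9ac45f858c066a854e3ab89a01898fcf983dfa84b195853268dc92ee0a1552f040245806a706b6f110e18e451640080))) (.node (.leaf (nat_lit 0x24d020e5d088b5a4ca648956d4a01a9ac439a9d0d52e545565b2609d452f0c760099baa77f1c0a8daf505f38c4572a98dac41540cbb45c379e64fc63c4c3bdc0f15a512fca3b4671603883eb887c92e593618d161600801)) (.leaf (nat_lit 0x8a384500c7499ba2e52d22d216047162de076a993102f575638171890e0d03c303e5409e46d53249858053366284724d5521399b028dac955e5c5413c7ef47b8b413f455d227baddd2b7d8860d6a86261877e35484665b4))))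 (.node (.node (.leaf (nat_lit 0x50d63c280d1380b01195b5b485139959303bb05c57167d0b630e8a191d4128c483e6d40b55d88bf203902cbce49533e98d3b86cda5d44d3362f894a2a8d59ebd3a22a44fd02c22c1e1b2f0e2b7971813d02e4363c02715c)) (.leaf (nat_lit 0x42d51c26e3cb02a4c2ad68b62cc1596d3037e4dc1416814363cbebab1d82a0c9ed042572c9dcdbf2313e4ee955a8c906d388c45496745e2ec2431ca2b1cc982e44e9c3774fcc9c10d22bd0d6c096a403d0214312a170389))) (.leaf (nat_lit 0x521e0d0946e61dacc8e522d6cc044962460a685cb316f6ad14b86e821c0c91f583c35a191e03b40980de8a789ba46b5faeb9398d9aed980da8f85089af0011212449a4451c27c7194342f0e79596aa205c57dbaf8465aab)))) (.node (.node (.node (.leaf (nat_lit 0xa61dc42526d5004d5d9d182da52e3522c0330e48ce86c6fd210545091741dd9605c9a7b48143c5f580de42586b77f1d2ba3b3524cc36c2c9583e02338515c5201813d7c48f469e32eb4452eab21c7ccd4c58c22dc111adc)) (.leaf (nat_lit 0x5cd0c5074d6d4bb776cd89545ba12a9ab60089189fb95c9c88f016443b09fc682f8e12777c2a3aadaf6234a66915f8d0451ca99275148b4e703ea2d98221bd0eccce12e9699492f180144ac68a003049e3619ccf060880b)))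 (.leaf (nat_lit 0x3589e5048426dcb7050d877598c70d4a8e07aa2eb916354c8a878f991c0ed336efa7e1ae8e6277ed9a9b804aaaf60202a056464ce709825f748acac8b18e8a698e2132e30a1530c955e1f0e516967012e0f4d6a58424080))) (.node (.node (.leaf (nat_lit 0x241d8d0be5df89ad24552296d9251b628e0484442c972ad4846a569d87089b7ba41e9a76bc2b880d9a8f5d5708474ce2cc32723212c9aa4f8e6d41f406222a44f159ebc9cad7838e73e683a98c1766e4dc419cb00600082)) (.leaf (nat_lit 0x9b0d6d094d2d2b9174e524f45bce7162b6077531bc037d05b4afd93ec40d7318d1034c9ec09d3aa985de3d1603a1507092b810f91aeda39542091c952cc0592020b85325121672b141b121c60d6abc79a1cf4c2a848a59d))) (.leaf (nat_lit 0x63889607a41980b6788d82958d2f1b4a8d0482a0459618c486106619870a34d5c5efb22a94f8c10d9a9bbaf31c7a8fd62d3a8499c2c99d4f083d50573695a869562497c9ddd75386cde443a9b817381370f2902306240dc))))) (.node (.node (.node (.node (.leaf (nat_lit 0x4e1e542b441d1d6d3d6c83098645c3469038c211c71cc9dd83f7d8199741e849c88f0d2702a31516c09b4b4cb399829521b882baeab5a6c1665c2d95e9003f68e22151e694c9281965e7c2c96386dc11cc4f08ddc025aab))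 (.leaf (nat_lit 0xc32f1d0b202610accafa6756cc2408da4605eed65dc4a0d514ea5982020c9ad723c89e9d5dfa1414872b8b689169e7e04d683234a8f60a541a5dc375cf0d863b244d544c052582c5edc7cd51aa0e54c85167045385121de))) (.leaf (nat_lit 0xb41cc50184175cb78d7d8a75a311af4a8e04e9442d96549485555644860cd37665dc130c282bd80d809b7ea4f21b376645571d9049e9a716383d81f40c4ea36904ce17c9250d7926a5e4438a5f16e84cdc4edca88409a80))) (.node (.node (.leaf (nat_lit 0x8055036e6e780b0a14db9949d3c5b593425c69ed31681836c2286991d8275f2c88411731834d192315e4965192649eb943a617e3bb460bf3c5e49594715b120962471eccfc5a8849b47d0d64097541386a15ddaa0243dc)) (.leaf (nat_lit 0x941d38327102174ced64882da9c5ab4694292dd2af878e7d83e52a5e9742bba50014b8b50183c9d58089463033998708d91e15ebfc36e69866750218e5512e0434824b848f46be59699562cd321c21a0ac4c555dc06dabe))) (.leaf (nat_lit 0x261e3500cd22abacf14524f6e4a39f624601aa8fdd177cd5174499891c0f0b95a8a51e70c26950a9809099694a508b173f002b19128da3d35e5e73780cae59bc601551f5c6166304e1b7d0d23b9684ca0c4f44548511a9d))))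 (.node (.node (.node (.leaf (nat_lit 0xc1d38392d08804cee051b4d8688c722c4227315281d552525c50e029782ba15e5cc3882b27616158090b23253f6f502233b76fb9796d6a9403d9ba145559fbd4c4cf7cca31e7a5a69b442d8928716247c469285a065adc)) (.leaf (nat_lit 0xaa1e0d0575e6066ac9842bc071a32e0e5e044a845da20148b22499b81d630b75a34e9e12a1044809ad968b68d5908b1faebf3a4ba36d8e0fa93c5390af1ea54ec4613a6d0110311a394490df199085dcdc570fafa456b4a))) (.leaf (nat_lit 0x781eae0bf70fdeaca5858af6f0a11b4a450488e64d972a35123260221d08c454009ee32a7198c5ad9aab72c59595415b8868bed254e9944f9d12a3fba4cdba3a487c11259d943c6a380330e9b81610bacc41970a06f8090))) (.node (.node (.leaf (nat_lit 0x72ae09b74d5389acb04511b22637776d33446ca7d9855e358808180fa17a2b82c2ce1a28f17a548dae627b696bf677e39132baaa99d48c0a270e6d4427e2120e1513196125153d8ee811d829a80724b8c3a1956120f8002)) (.leaf (nat_lit 0x2708d0198fa52bacf0e52816c9046f61b35411ca5f17763269d25e891d88c57777a2da7e84b2ca74680f0c7948a4654638b8958913f215055e6dd4f4ec8059458414120e574dc755417690c42d96c220d06cd2540e6701d)))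 (.leaf (nat_lit 0x7239fe07b7995ca3308d8af21021774add018114da6b2845660b0f0f0f09693c20afb3a6eb1a430da59b7974fc7544a0c63abe6a82c992b81466a55631559c6815137129c69480bac908988acf028cbc98618d4e06f8580))))))

def wsE : List (List ℕ) := [[0], [1], [2], [3], [4], [5], [6], [7], [8], [9], [10], [11], [12], [13], [14], [15], [16], [17], [18], [19], [5, 6], [2, 6, 11, 14], [13, 15], [15, 1, 16, 15], [2, 17, 3]]

theorem tab0 : TabOK (gen π).subtype m 7 100 20 tabs :=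
  tabOK_act mod.2 spec (by decide +kernel)

theorem tab1 : TabOK (gen π).subtype (subT (cut m 20) wsE) 7 100 25 tabs :=
  tab0.sub (pmodel_lt mod.2 orb) ((allN_eq _ _).1 (by decide +kernel))

noncomputable def val : List ℕ → ℕ := valT 7 5 25 tabs 1246503808

noncomputable def mE : ℕ → K := cut (subT (cut m 20) wsE) 25

theorem orc : Orc mE val :=
  tab1.orc (pmodel_lt mod.2 orb) mod.2.base (by decide +kernel) le_rfl

end Cfsg.Agent.HSR.Mo
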